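import Mathlib

/-!
Products of differences along a descending series of subgroups, and the matching iterated commutators. In
characteristic two, if all products along the series of derived terms vanish then the last term acts
quadratically.
-/

set_option autoImplicit false

namespace Cfsg.Agent.GenA.TwoLengthDerived

open scoped commutatorElement

variable {G : Type*} [Group G]

/-- The product `(ρ (c (i + m - 1)) - 1) * ⋯ * (ρ (c i) - 1)`. -/
def chain {R : Type*} [Ring R] (ρ : G →* R) (c : ℕ → G) (i : ℕ) : ℕ → R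
  | 0 => 1
  | m + 1 => (ρ (c (i + m)) - 1) * chain ρ c i m

/-- The iterated commutator `⁅c (m - 1), ⋯, ⁅c 0, z⁆⁆`. -/
def comm (c : ℕ → G) (z : G) : ℕ → G
  | 0 => z
  | m + 1 => ⁅c m, comm c z m⁆

section Ring

variable {R : Type*} [Ring R] (ρ : G →* R)

theorem chain_zero (c : ℕ → G) (i : ℕ) : chain ρ c i 0 = 1 := rfl

theorem chain_succ (c : ℕ → G) (i m : ℕ) : chain ρ c i (m + 1) = (ρ (c (i + m)) - 1) * chain ρ c i m := rfl

theorem chain_split (c : ℕ → G) (i : ℕ) :
    ∀ m : ℕ, chain ρ c i (m + 1) = chain ρ c (i + 1) m * (ρ (c i) - 1) := by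
  intro m
  induction m with
  | zero => rw [chain_succ, chain_zero, chain_zero, mul_one, one_mul, Nat.add_zero]
  | succ m ih => rw [chain_succ, ih, chain_succ, ← mul_assoc, show i + (m + 1) = i + 1 + m by omega]

theorem chain_congr {c c' : ℕ → G} (i : ℕ) :
    ∀ m : ℕ, (∀ l, i ≤ l → l < i + m → c l = c' l) → chain ρ c i m = chain ρ c' i m := by
  intro m
  induction m with
  | zero => intro _; rfl
  | succ m ih =>
    intro h
    rw [chain_succ, chain_succ, h (i + m) (by omega) (by omega), ih fun l h1 h2 => h l h1 (by omega)]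

theorem chain_comp {H : Type*} [Group H] (π : H →* G) (c : ℕ → H) (i : ℕ) :
    ∀ m : ℕ, chain (ρ.comp π) c i m = chain ρ (fun l => π (c l)) i m := by
  intro m
  induction m with
  | zero => rfl
  | succ m ih => rw [chain_succ, chain_succ, ih]; rfl

/-- The left annihilated elements form a subgroup. -/
theorem annihilated [Finite G] (X : R) (U : Set G) (hU : ∀ s ∈ U, X * (ρ s - 1) = 0) {g : G}
    (hg : g ∈ Subgroup.closure U) : X * (ρ g - 1) = 0 := by
  induction hg using Subgroup.closure_induction with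
  | mem s hs => exact hU s hs
  | one => rw [map_one, sub_self, mul_zero]
  | mul a b _ _ ha hb =>
    rw [show ρ (a * b) - 1 = (ρ a - 1) * ρ b + (ρ b - 1) by rw [map_mul]; noncomm_ring, mul_add, ← mul_assoc, ha,
      hb, zero_mul, add_zero]
  | inv a _ ha =>
    have h1 : ρ a * ρ a⁻¹ = 1 := by rw [← map_mul, mul_inv_cancel, map_one]
    rw [show ρ a⁻¹ - 1 = -((ρ a - 1) * ρ a⁻¹) by rw [sub_mul, h1, one_mul]; abel, mul_neg, ← mul_assoc, ha,
      zero_mul, neg_zero]

theorem sub_one_sq (h2 : ∀ a : R, a + a = 0) (g : G) : (ρ g - 1) * (ρ g - 1) = ρ (g * g) - 1 := by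
  have h : (ρ g - 1) * (ρ g - 1) = ρ g * ρ g - 1 - ((ρ g - 1) + (ρ g - 1)) := by noncomm_ring
  rw [h, h2, sub_zero, map_mul]

theorem commutatorElement_eq_sq (x y : G) : ⁅x, y⁆ = x * x * ((x⁻¹ * y) * (x⁻¹ * y)) * (y⁻¹ * y⁻¹) := by
  rw [commutatorElement_def]; group

/-- The last term acts quadratically. -/
theorem quadratic [Finite G] (h2 : ∀ a : R, a + a = 0) (T : ℕ → Subgroup G)
    (hT : ∀ i, T (i + 1) = ⁅T i, T i⁆) (e : ℕ)
    (hz : ∀ c : ℕ → G, (∀ l, c l ∈ T l) → chain ρ c 0 (e + 2) = 0) :
    ∀ a ∈ T (e + 1), ∀ y ∈ T (e + 1), (ρ a - 1) * (ρ y - 1) = 0 := by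
  classical
  have hle : ∀ i, T (i + 1) ≤ T i := fun i => hT i ▸ Subgroup.commutator_le_self _
  have key : ∀ i m : ℕ, 1 ≤ i → i + m = e + 2 → ∀ c : ℕ → G, (∀ l, c l ∈ T l) → ∀ y ∈ T i,
      chain ρ c i m * (ρ y - 1) = 0 := by
    intro i
    induction i with
    | zero => intro m h; omega
    | succ i ih =>
      intro m _ him c hc y hy
      rcases Nat.eq_zero_or_pos i with rfl | hi
      · have h := hz (Function.update c 0 y) fun l => by
          rcases eq_or_ne l 0 with rfl | hl
          · rw [Function.update_self]; exact hle 0 hy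
          · rw [Function.update_of_ne hl]; exact hc l
        rw [show e + 2 = m + 1 by omega, chain_split, Function.update_self,
          chain_congr ρ (c' := c) (0 + 1) m fun l h1 _ => Function.update_of_ne (by omega) y c] at h
        exact h
      · rw [hT i] at hy
        refine annihilated ρ _ (Set.range fun z : T i => (z : G) * z) ?_ (g := y) ?_
        · rintro _ ⟨z, rfl⟩
          have h := ih (m + 1) hi (by omega) (Function.update c i z) (fun l => by
            rcases eq_or_ne l i with rfl | hl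
            · rw [Function.update_self]; exact z.2
            · rw [Function.update_of_ne hl]; exact hc l) z z.2
          rw [chain_split, Function.update_self,
            chain_congr ρ (c' := c) (i + 1) m fun l h1 _ => Function.update_of_ne (by omega) _ c,
            mul_assoc, sub_one_sq ρ h2] at h
          exact h
        · refine Subgroup.commutator_le.mpr (fun u hu v hv => ?_) hy
          rw [commutatorElement_eq_sq]
          exact mul_mem (mul_mem (Subgroup.subset_closure ⟨⟨u, hu⟩, rfl⟩)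
            (Subgroup.subset_closure ⟨⟨u⁻¹ * v, mul_mem (inv_mem hu) hv⟩, rfl⟩))
            (Subgroup.subset_closure ⟨⟨v⁻¹, inv_mem hv⟩, rfl⟩)
  intro a ha y hy
  have h := key (e + 1) 1 (by omega) (by omega) (Function.update (fun _ => 1) (e + 1) a) (fun l => by
    rcases eq_or_ne l (e + 1) with rfl | hl
    · rw [Function.update_self]; exact ha
    · rw [Function.update_of_ne hl]; exact one_mem _) y hy
  rwa [chain_succ, chain_zero, mul_one, Nat.add_zero, Function.update_self] at h

end Ring

section Comm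

theorem map_comm {H : Type*} [Group H] (π : G →* H) (c : ℕ → G) (z : G) :
    ∀ m : ℕ, comm (fun l => π (c l)) (π z) m = π (comm c z m) := by
  intro m
  induction m with
  | zero => rfl
  | succ m ih =>
    show ⁅π (c m), comm (fun l => π (c l)) (π z) m⁆ = π ⁅c m, comm c z m⁆
    rw [ih, map_commutatorElement]

/-- The commutators of a normal subgroup with the levels. -/
def levels (T : ℕ → Subgroup G) (D : Subgroup G) : ℕ → Subgroup G
  | 0 => D
  | i + 1 => ⁅T i, levels T D i⁆

theorem comm_mem_levels (T : ℕ → Subgroup G) (D : Subgroup G) {c : ℕ → G} (hc : ∀ l, c l ∈ T l) {z : G}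
    (hz : z ∈ D) : ∀ m : ℕ, comm c z m ∈ levels T D m := by
  intro m
  induction m with
  | zero => exact hz
  | succ m ih => exact Subgroup.commutator_mem_commutator (hc m) ih

theorem levels_le_term (T : ℕ → Subgroup G) (hT : ∀ i, T (i + 1) = ⁅T i, T i⁆) (D : Subgroup G) (hD : D ≤ T 0) :
    ∀ i, levels T D i ≤ T i := by
  intro i
  induction i with
  | zero => exact hD
  | succ i ih =>
    rw [hT]
    exact Subgroup.commutator_mono le_rfl ih

theorem conj_mem_commutator {A B : Subgroup G} {g : G} (hA : ∀ a ∈ A, g * a * g⁻¹ ∈ A)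
    (hB : ∀ b ∈ B, g * b * g⁻¹ ∈ B) {x : G} (hx : x ∈ ⁅A, B⁆) : g * x * g⁻¹ ∈ ⁅A, B⁆ := by
  have h1 : ⁅A, B⁆.map (MulAut.conj g).toMonoidHom ≤ ⁅A, B⁆ := by
    rw [Subgroup.map_commutator]
    refine Subgroup.commutator_mono ?_ ?_
    · rintro _ ⟨a, ha, rfl⟩; exact hA a ha
    · rintro _ ⟨b, hb, rfl⟩; exact hB b hb
  exact h1 ⟨x, hx, rfl⟩

theorem levels_conj {P : Subgroup G} (T : ℕ → Subgroup G) (hTn : ∀ i, ∀ g ∈ P, ∀ a ∈ T i, g * a * g⁻¹ ∈ T i)
    {D : Subgroup G} (hD : ∀ g ∈ P, ∀ a ∈ D, g * a * g⁻¹ ∈ D) :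
    ∀ i, ∀ g ∈ P, ∀ a ∈ levels T D i, g * a * g⁻¹ ∈ levels T D i := by
  intro i
  induction i with
  | zero => exact hD
  | succ i ih =>
    intro g hg a ha
    exact conj_mem_commutator (hTn i g hg) (ih g hg) ha

theorem levels_le_self {P : Subgroup G} (T : ℕ → Subgroup G) (hTP : ∀ i, T i ≤ P) {D : Subgroup G}
    (hD : ∀ g ∈ P, ∀ a ∈ D, g * a * g⁻¹ ∈ D) : ∀ i, levels T D i ≤ D := by
  intro i
  induction i with
  | zero => exact le_rfl
  | succ i ih =>
    refine Subgroup.commutator_le.mpr fun t ht a ha => ?_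
    rw [commutatorElement_def]
    exact mul_mem (hD t (hTP i ht) a (ih ha)) (inv_mem (ih ha))

end Comm

end Cfsg.Agent.GenA.TwoLengthDerived
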