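import Cfsg.Agent.GenA.TwoLength.Half

/-!
The quotient of a normal `q`-group by the radical of a pairing, with its form and the isometries induced by the
elements preserving the pairing. Commuting involutions inducing independent isometries have a nonzero product of
differences on the space of the pairing.
-/

set_option autoImplicit false
set_option linter.style.haveILetI false
set_option linter.unusedSectionVars false

namespace Cfsg.Agent.GenA.TwoLengthDerived

open Module (End)
open Cfsg.Agent.PLocal.TheoremB (Normalizes)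
open Cfsg.Agent.GenA.TwoLength
open Cfsg.Agent.GenA.ShultGross
open Cfsg.Agent.GenA.ShultGross.Two hiding orbit stage_one abelian_fix lower
open scoped commutatorElement

universe u

variable {K : Type*} [Field K] [CharP K 2] [IsAlgClosed K] {V : Type*} [AddCommGroup V] [Module K V]
  [FiniteDimensional K V]
variable {Γ : Type u} [Group Γ] [Finite Γ] {ρ : Γ →* End K V} {Cq : Subgroup Γ} [hCqn : Cq.Normal]
  {lam : Γ → Γ → K} {q : ℕ}

set_option maxHeartbeats 1000000 in
/-- The quotient by the radical. -/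
theorem exists_frame (hqo : Odd q) (hCqq : IsPGroup q Cq) (h : Pairing ρ Cq lam)
    (hcomR0 : ∀ a ∈ Cq, ∀ c ∈ Cq, ⁅a, c⁆ ∈ radSub h) (hpowR : ∀ a ∈ Cq, a ^ q ∈ radSub h) :
    ∃ (A : Type u) (_ : CommGroup A) (_ : Finite A) (F : Form A K) (φ : presGroup Cq lam →* MulAut A)
      (π : Cq →* A), Function.Surjective π ∧ (∀ a : A, a ^ q = 1) ∧ (∀ γ, φ γ ∈ F.isom) ∧
        (∀ (γ : presGroup Cq lam) (a : Cq), φ γ (π a) = π (MulAut.conjNormal (γ : Γ) a)) ∧
        (∀ a c : Cq, F.lam (π a) (π c) = lam (a : Γ) c) ∧ ∀ a : Cq, π a = 1 ↔ (a : Γ) ∈ radSub h := by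
  classical
  set Γ1 := presGroup Cq lam with hΓ1
  -- the quotient
  set R := (radSub h).subgroupOf Cq with hR
  have hRmem : ∀ a : Cq, a ∈ R ↔ (a : Γ) ∈ radSub h := fun a => Subgroup.mem_subgroupOf
  have hcomR : ∀ a c : Cq, a⁻¹ * c⁻¹ * (a * c) ∈ R := fun a c => (hRmem _).mpr ((by
    have h1 := hcomR0 _ (inv_mem a.2) _ (inv_mem c.2)
    simp only [commutatorElement_def, inv_inv] at h1
    simpa [mul_assoc] using h1))
  haveI : R.Normal := ⟨fun a ha g => by
    have h1 := hcomR g⁻¹ a⁻¹
    rw [inv_inv, inv_inv] at h1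
    have h2 : g * a * (g⁻¹ * a⁻¹) ∈ R := h1
    have h3 := mul_mem h2 ha
    rwa [mul_assoc (g * a), mul_assoc g⁻¹, inv_mul_cancel, mul_one] at h3⟩
  letI : CommGroup (Cq ⧸ R) := { (inferInstance : Group (Cq ⧸ R)) with
    mul_comm := fun a c => by
      obtain ⟨a, rfl⟩ := QuotientGroup.mk'_surjective R a
      obtain ⟨c, rfl⟩ := QuotientGroup.mk'_surjective R c
      rw [← map_mul, ← map_mul]
      refine QuotientGroup.eq.mpr ?_
      rw [show (a * c)⁻¹ * (c * a) = c⁻¹ * a⁻¹ * (c * a) by group]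
      exact hcomR c a }
  set π := QuotientGroup.mk' R with hπ
  have hexp : ∀ a : Cq ⧸ R, a ^ q = 1 := fun a => by
    obtain ⟨a, rfl⟩ := QuotientGroup.mk'_surjective R a
    rw [← map_pow]
    exact (QuotientGroup.eq_one_iff _).mpr ((hRmem _).mpr (hpowR _ a.2))
  obtain ⟨φ, hφ⟩ : ∃ φ : Γ1 →* MulAut (Cq ⧸ R),
      ∀ (γ : Γ1) (a : Cq), φ γ (π a) = π (MulAut.conjNormal (γ : Γ) a) := by
    refine ⟨MonoidHom.mk' (fun γ => QuotientGroup.congr R R (MulAut.conjNormal (γ : Γ)) (by
      ext a
      constructor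
      · rintro ⟨c, hc, rfl⟩
        exact (hRmem _).mpr (γ.2.conj_radSub ((hRmem _).mp hc))
      · intro ha
        refine ⟨(MulAut.conjNormal (γ : Γ)).symm a, (hRmem _).mpr ?_, (MulAut.conjNormal (γ : Γ)).apply_symm_apply a⟩
        have h1 := Preserves.conj_radSub (γ⁻¹ : Γ1).2 ((hRmem _).mp ha)
        rw [MulAut.conjNormal_symm_apply]
        simpa using h1)) fun a c => MulEquiv.ext fun z => by
      obtain ⟨z, rfl⟩ := QuotientGroup.mk'_surjective R z
      show QuotientGroup.mk' R (MulAut.conjNormal ((a * c : Γ1) : Γ) z) =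
        QuotientGroup.mk' R (MulAut.conjNormal (a : Γ) (MulAut.conjNormal (c : Γ) z))
      rw [Subgroup.coe_mul, map_mul]; rfl, fun γ a => rfl⟩
  -- the form
  have hresp : ∀ a a' c c' : Cq, a⁻¹ * a' ∈ R → c⁻¹ * c' ∈ R → lam a c = lam a' c' := by
    intro a a' c c' ha hc
    have e1 := not_mem_rad_of_twist (h := h) a.2 a'.2 (show (a : Γ)⁻¹ * a' ∈ radSub h from (hRmem _).mp ha)
    have e2 := not_mem_rad_of_twist (h := h) c.2 c'.2 (show (c : Γ)⁻¹ * c' ∈ radSub h from (hRmem _).mp hc)
    rw [e1 _ c'.2]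
    have s1 := h.swap a.2 c.2
    have s2 := h.swap a.2 c'.2
    rw [e2 _ a.2] at s2
    exact mul_right_cancel₀ (h.ne_zero c.2 a.2) (s1.trans s2.symm)
  obtain ⟨F, hF⟩ : ∃ F : Form (Cq ⧸ R) K, ∀ a c : Cq, F.lam (π a) (π c) = lam (a : Γ) c := by
    refine ⟨{
      lam := fun A B => Quotient.liftOn₂' A B (fun a c => lam (a : Γ) c)
        fun a c a' c' ha hc => hresp a a' c c' (QuotientGroup.leftRel_apply.mp ha)
          (QuotientGroup.leftRel_apply.mp hc)
      mul_left := fun A B D => by
        obtain ⟨a, rfl⟩ := QuotientGroup.mk'_surjective R A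
        obtain ⟨c, rfl⟩ := QuotientGroup.mk'_surjective R B
        obtain ⟨e, rfl⟩ := QuotientGroup.mk'_surjective R D
        exact h.mul_left a.2 c.2 e.2
      mul_right := fun A B D => by
        obtain ⟨a, rfl⟩ := QuotientGroup.mk'_surjective R A
        obtain ⟨c, rfl⟩ := QuotientGroup.mk'_surjective R B
        obtain ⟨e, rfl⟩ := QuotientGroup.mk'_surjective R D
        exact h.mul_right a.2 c.2 e.2
      alt := fun A => by
        obtain ⟨a, rfl⟩ := QuotientGroup.mk'_surjective R A
        exact h.sq_eq_one hqo (hCqq) a.2 a.2 (h.swap a.2 a.2)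
      sq := fun A B e => by
        obtain ⟨a, rfl⟩ := QuotientGroup.mk'_surjective R A
        obtain ⟨c, rfl⟩ := QuotientGroup.mk'_surjective R B
        exact h.sq_eq_one hqo (hCqq) a.2 c.2 e
      nondeg := fun A e => by
        obtain ⟨a, rfl⟩ := QuotientGroup.mk'_surjective R A
        exact (QuotientGroup.eq_one_iff a).mpr ((hRmem a).mpr ⟨a.2, fun c hc => e (π ⟨c, hc⟩)⟩) },
      fun a c => rfl⟩
  have hisom : ∀ γ : Γ1, φ γ ∈ F.isom := fun γ A B => by
    obtain ⟨a, rfl⟩ := QuotientGroup.mk'_surjective R A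
    obtain ⟨c, rfl⟩ := QuotientGroup.mk'_surjective R B
    rw [hφ, hφ, hF, hF, MulAut.conjNormal_apply, MulAut.conjNormal_apply]
    exact γ.2.2 a a.2 c c.2
  exact ⟨Cq ⧸ R, inferInstance, inferInstance, F, φ, π, QuotientGroup.mk'_surjective R, hexp, hisom, hφ, hF,
    fun a => (QuotientGroup.eq_one_iff a).trans (hRmem a)⟩

/-- The generators of a family of involutions are independent. -/
def Indep {G : Type*} [Group G] {M : Type*} [Group M] (φ : G →* M) : List G → Prop
  | [] => True
  | a :: t => φ a ∉ Subgroup.closure (φ '' {x | x ∈ t}) ∧ Indep φ t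

/-- A subgroup generated by one more commuting involution. -/
theorem mem_closure_insert {M : Type*} [Group M] {a x : M} (ha : a * a = 1) {s : Set M}
    (hc : ∀ y ∈ s, Commute a y) (hx : x ∈ Subgroup.closure (insert a s)) :
    ∃ y ∈ Subgroup.closure s, x = y ∨ x = a * y := by
  have hc' : ∀ y ∈ Subgroup.closure s, Commute a y := fun y hy => by
    induction hy using Subgroup.closure_induction with
    | mem y hy => exact hc y hy
    | one => exact Commute.one_right a
    | mul u v _ _ hu hv => exact hu.mul_right hv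
    | inv u _ hu => exact hu.inv_right
  have e : a⁻¹ = a := (eq_inv_of_mul_eq_one_left ha).symm
  induction hx using Subgroup.closure_induction with
  | mem y hy =>
    rcases hy with rfl | hy
    · exact ⟨1, one_mem _, Or.inr (mul_one _).symm⟩
    · exact ⟨y, Subgroup.subset_closure hy, Or.inl rfl⟩
  | one => exact ⟨1, one_mem _, Or.inl rfl⟩
  | mul u v _ _ hu hv =>
    obtain ⟨u', hu', hu''⟩ := hu
    obtain ⟨v', hv', hv''⟩ := hv
    refine ⟨u' * v', mul_mem hu' hv', ?_⟩
    rcases hu'' with rfl | rfl <;> rcases hv'' with rfl | rfl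
    · exact Or.inl rfl
    · exact Or.inr (by rw [← mul_assoc u, ← (hc' u hu').eq, mul_assoc])
    · exact Or.inr (by rw [mul_assoc])
    · exact Or.inl (by rw [mul_assoc a u', ← mul_assoc u' a, ← (hc' u' hu').eq, mul_assoc a u' v', ← mul_assoc,
        ha, one_mul])
  | inv u _ hu =>
    obtain ⟨u', hu', hu''⟩ := hu
    refine ⟨u'⁻¹, inv_mem hu', ?_⟩
    rcases hu'' with rfl | rfl
    · exact Or.inl rfl
    · exact Or.inr (by rw [mul_inv_rev, e, (hc' _ (inv_mem hu')).eq])

set_option maxHeartbeats 1000000 in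
/-- The product of differences of independent commuting involutions. -/
theorem exists_prod_ne_zero [hqf : Fact q.Prime] (hqo : Odd q) (hCqq : IsPGroup q Cq) (h : Pairing ρ Cq lam)
    (hcomR0 : ∀ a ∈ Cq, ∀ c ∈ Cq, ⁅a, c⁆ ∈ radSub h)
    {A : Type u} [CommGroup A] [Finite A] {F : Form A K} (hexp : ∀ a : A, a ^ q = 1)
    (φ : presGroup Cq lam →* MulAut A) (hisom : ∀ γ, φ γ ∈ F.isom) (π : Cq →* A) (hπ : Function.Surjective π)
    (hφ : ∀ (γ : presGroup Cq lam) (a : Cq), φ γ (π a) = π (MulAut.conjNormal (γ : Γ) a))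
    (hF : ∀ a c : Cq, F.lam (π a) (π c) = lam (a : Γ) c) (hrad : ∀ a : Cq, π a = 1 ↔ (a : Γ) ∈ radSub h)
    (E : Subgroup (presGroup Cq lam)) (hE : ∀ x ∈ E, x * x = 1) :
    ∀ l : List (presGroup Cq lam), (∀ x ∈ l, x ∈ E) → Indep φ l →
      ∃ w ∈ pairSpace ρ Cq lam, (l.map fun x : presGroup Cq lam => ρ (x : Γ) - 1).prod w ≠ 0 := by
  classical
  haveI : Fact (Nat.Prime 2) := ⟨Nat.prime_two⟩
  have hinv : ∀ x ∈ E, x⁻¹ = x := fun x hx => (eq_inv_of_mul_eq_one_left (hE x hx)).symm
  have hcomm : ∀ x ∈ E, ∀ y ∈ E, Commute x y := fun x hx y hy => by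
    calc x * y = (x * y)⁻¹ := (hinv _ (mul_mem hx hy)).symm
      _ = y * x := by rw [mul_inv_rev, hinv x hx, hinv y hy]
  have hEcomm : ∀ x ∈ E, ∀ y ∈ E, Commute (φ x) (φ y) := fun x hx y hy => (hcomm x hx y hy).map φ
  have hsq : ∀ x ∈ E, ∀ a, φ x (φ x a) = a := fun x hx a => by
    rw [← MulAut.mul_apply, ← map_mul, hE x hx, map_one, MulAut.one_apply]
  intro l
  generalize hlen : l.length = r
  induction r generalizing l with
  | zero =>
    intro _ _
    rw [List.length_eq_zero_iff.mp hlen]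
    obtain ⟨w, hw, hw0⟩ := Submodule.exists_mem_ne_zero_of_ne_bot h.ne
    exact ⟨w, hw, by simpa using hw0⟩
  | succ r ihr =>
    obtain ⟨a, t, rfl⟩ : ∃ a t, l = a :: t := List.exists_cons_of_ne_nil (List.ne_nil_of_length_eq_add_one hlen)
    intro hlE ⟨haind, htind⟩
    have haE : a ∈ E := hlE a List.mem_cons_self
    have ha1 : φ a ≠ 1 := fun e => haind (e ▸ one_mem _)
    -- make the tail fix a nondegenerate part of the inverted elements
    have tail : ∀ t : List (presGroup Cq lam), (∀ x ∈ t, x ∈ E) →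
        φ a ∉ Subgroup.closure (φ '' {x | x ∈ t}) → Indep φ t →
        ∃ (M : Subgroup A) (t' : List (presGroup Cq lam)), M ≠ ⊥ ∧ F.ND M ∧ M ≤ neg (φ a) ∧
          (∀ x ∈ E, ∀ m ∈ M, φ x m ∈ M) ∧ t'.length = t.length ∧ (∀ x ∈ t', x ∈ E) ∧
          (∀ x ∈ t', φ x ∈ Subgroup.closure (insert (φ a) (φ '' {y | y ∈ t}))) ∧ Indep φ t' ∧
          (∀ x ∈ t', ∀ m ∈ M, φ x m = m) ∧
          (ρ (a : Γ) - 1) * (t'.map fun x : presGroup Cq lam => ρ (x : Γ) - 1).prod =
            (ρ (a : Γ) - 1) * (t.map fun x : presGroup Cq lam => ρ (x : Γ) - 1).prod := by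
      intro t
      induction t with
      | nil =>
        intro _ _ _
        refine ⟨neg (φ a), [], fun h0 => ha1 (MulEquiv.ext fun x => ?_), ?_, le_rfl,
          fun x hx m hm => apply_mem_neg (hEcomm x hx a haE) hm, rfl, by simp, by simp, trivial, by simp, rfl⟩
        · obtain ⟨p, -, m, -, hp, hm, rfl⟩ := split hqo hexp (g := φ a) (M := ⊤) (fun _ _ => trivial)
            (fun x _ => hsq a haE x) (Subgroup.mem_top x)
          have : m = 1 := Subgroup.mem_bot.mp (h0 ▸ (mem_neg.mpr hm : m ∈ neg (φ a)))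
          rw [MulAut.one_apply, this, mul_one, hp]
        · have h1 := nd_neg hqo hexp (hisom a) F.nd_top (fun _ _ => trivial) fun x _ => hsq a haE x
          rwa [top_inf_eq] at h1
      | cons b t iht =>
        intro hbt hab ⟨hbind, htind⟩
        have hbE : b ∈ E := hbt b List.mem_cons_self
        have hsub : φ '' {y | y ∈ t} ⊆ φ '' {y | y ∈ b :: t} :=
          Set.image_mono fun y hy => List.mem_cons_of_mem b hy
        obtain ⟨M, t', hM0, hMD, hMa, hMinv, hlen', ht'E, ht'cl, ht'ind, hfix, hprod⟩ :=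
          iht (fun x hx => hbt x (List.mem_cons_of_mem b hx)) (fun e => hab (Subgroup.closure_mono hsub e)) htind
        have hcl : ∀ y, φ y ∈ Subgroup.closure (φ '' {x | x ∈ t'}) →
            φ y ∈ Subgroup.closure (insert (φ a) (φ '' {y | y ∈ t})) := fun y hy => by
          refine (Subgroup.closure_le _).mpr ?_ hy
          rintro _ ⟨x, hx, rfl⟩
          exact ht'cl x hx
        have hspl : ∀ {x}, x ∈ Subgroup.closure (insert (φ a) (φ '' {y | y ∈ t})) →
            ∃ y ∈ Subgroup.closure (φ '' {y | y ∈ t}), x = y ∨ x = φ a * y := fun hx =>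
          mem_closure_insert (by rw [← map_mul, hE a haE, map_one])
            (by rintro _ ⟨y, hy, rfl⟩; exact hEcomm a haE y (hbt y (List.mem_cons_of_mem b hy))) hx
        have hnotin : φ b ∉ Subgroup.closure (insert (φ a) (φ '' {y | y ∈ t})) := fun hb => by
          obtain ⟨y, hy, rfl | e⟩ := hspl hb
          · exact hbind hy
          · refine hab ?_
            rw [show φ a = φ b * y⁻¹ by rw [e, mul_inv_cancel_right]]
            exact mul_mem (Subgroup.subset_closure ⟨b, List.mem_cons_self, rfl⟩)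
              (inv_mem (Subgroup.closure_mono hsub hy))
        by_cases hb : M ⊓ neg (φ b) = ⊥
        · refine ⟨M, b :: t', hM0, hMD, hMa, hMinv, by simp [hlen'], ?_, ?_, ⟨fun e => hnotin (hcl b e), ht'ind⟩,
            ?_, ?_⟩
          · rintro x (_ | ⟨_, hx⟩)
            exacts [hbE, ht'E x hx]
          · rintro x (_ | ⟨_, hx⟩)
            · exact Subgroup.subset_closure (Or.inr ⟨b, List.mem_cons_self, rfl⟩)
            · exact Subgroup.closure_mono (Set.insert_subset_insert hsub) (ht'cl x hx)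
          · rintro x (_ | ⟨_, hx⟩) m hm
            · obtain ⟨p, hp, m', hm', hgp, hgm, rfl⟩ := split hqo hexp (hMinv b hbE) (fun x _ => hsq b hbE x) hm
              rw [show m' = 1 from Subgroup.mem_bot.mp (hb ▸ (⟨hm', hgm⟩ : m' ∈ M ⊓ neg (φ b))), mul_one, hgp]
            · exact hfix x hx m hm
          · simp only [List.map_cons, List.prod_cons]
            rw [← mul_assoc, ← mul_assoc]
            have hc : Commute (ρ (a : Γ) - 1) (ρ (b : Γ) - 1) :=
              ((((hcomm a haE b hbE).map (presGroup Cq lam).subtype).map ρ).sub_left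
                (Commute.one_left _)).sub_right (Commute.one_right _)
            rw [hc.eq, mul_assoc, mul_assoc, hprod]
        · refine ⟨M ⊓ neg (φ b), b * a :: t', hb, nd_neg hqo hexp (hisom b) hMD (hMinv b hbE) fun x _ => hsq b hbE x,
            inf_le_left.trans hMa, fun x hx m hm => ⟨hMinv x hx m hm.1, apply_mem_neg (hEcomm x hx b hbE) hm.2⟩,
            by simp [hlen'], ?_, ?_, ⟨fun e => hnotin ?_, ht'ind⟩, ?_, ?_⟩
          · rintro x (_ | ⟨_, hx⟩)
            exacts [mul_mem hbE haE, ht'E x hx]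
          · rintro x (_ | ⟨_, hx⟩)
            · rw [map_mul]
              exact mul_mem (Subgroup.subset_closure (Or.inr ⟨b, List.mem_cons_self, rfl⟩))
                (Subgroup.subset_closure (Or.inl rfl))
            · exact Subgroup.closure_mono (Set.insert_subset_insert hsub) (ht'cl x hx)
          · have h1 := hcl _ e
            rw [map_mul] at h1
            simpa [mul_assoc] using mul_mem h1 (inv_mem (Subgroup.subset_closure (Or.inl rfl :
              φ a ∈ insert (φ a) (φ '' {y | y ∈ t}))))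
          · rintro x (_ | ⟨_, hx⟩) m hm
            · rw [map_mul, MulAut.mul_apply, mem_neg.mp (hMa hm.1), map_inv, mem_neg.mp hm.2, inv_inv]
            · exact hfix x hx m hm.1
          · simp only [List.map_cons, List.prod_cons]
            rw [← mul_assoc, ← mul_assoc]
            have hca : Commute (ρ (a : Γ)) (ρ (b : Γ)) :=
              ((hcomm a haE b hbE).map (presGroup Cq lam).subtype).map ρ
            have haa : ρ (a : Γ) * ρ (a : Γ) = 1 := by
              rw [← map_mul, show (a : Γ) * a = 1 from congrArg Subtype.val (hE a haE), map_one]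
            have h2 : (ρ (a : Γ) - 1) * (ρ (a : Γ) - 1) = 0 := by
              rw [show (ρ (a : Γ) - 1) * (ρ (a : Γ) - 1) = ρ (a : Γ) * ρ (a : Γ) - 1 - ((ρ (a : Γ) - 1) + (ρ (a : Γ) - 1))
                by noncomm_ring, haa, sub_self, zero_sub, ← two_smul K (ρ (a : Γ) - 1), CharTwo.two_eq_zero,
                zero_smul, neg_zero]
            have e1 : (ρ (a : Γ) - 1) * ρ (a : Γ) = ρ (a : Γ) - 1 := by
              rw [show (ρ (a : Γ) - 1) * ρ (a : Γ) = (ρ (a : Γ) - 1) * (ρ (a : Γ) - 1) + (ρ (a : Γ) - 1) by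
                noncomm_ring, h2, zero_add]
            have e2 : (ρ (a : Γ) - 1) * (ρ ((b * a : presGroup Cq lam) : Γ) - 1) =
                (ρ (a : Γ) - 1) * (ρ (b : Γ) - 1) := by
              rw [Subgroup.coe_mul, map_mul, ← hca.eq, mul_sub, ← mul_assoc, e1, ← mul_sub]
            rw [e2]
            have hc : Commute (ρ (a : Γ) - 1) (ρ (b : Γ) - 1) :=
              (hca.sub_left (Commute.one_left _)).sub_right (Commute.one_right _)
            rw [hc.eq, mul_assoc, mul_assoc, hprod]
    have htE : ∀ x ∈ t, x ∈ E := fun x hx => hlE x (List.mem_cons_of_mem a hx)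
    obtain ⟨M, t', hM0, hMD, hMa, -, hlen', ht'E, -, ht'ind, hfix, hprod⟩ := tail t htE haind htind
    obtain ⟨w₀, hw₀, hw₀0⟩ := ihr t' (by rw [hlen']; simpa using hlen) ht'E ht'ind
    by_contra! hcon
    set R := (t'.map fun x : presGroup Cq lam => ρ (x : Γ) - 1).prod with hR
    have hRfix : ∀ w ∈ pairSpace ρ Cq lam, ρ (a : Γ) (R w) = R w := fun w hw => by
      have h1 := hcon w hw
      rw [List.map_cons, List.prod_cons, ← hprod, Module.End.mul_apply, LinearMap.sub_apply,
        Module.End.one_apply, sub_eq_zero] at h1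
      exact h1
    have hRmem : ∀ w ∈ pairSpace ρ Cq lam, R w ∈ pairSpace ρ Cq lam := by
      have : ∀ s : List (presGroup Cq lam), ∀ w ∈ pairSpace ρ Cq lam,
          (s.map fun x : presGroup Cq lam => ρ (x : Γ) - 1).prod w ∈ pairSpace ρ Cq lam := by
        intro s
        induction s with
        | nil => intro w hw; simpa using hw
        | cons x s ih =>
          intro w hw
          rw [List.map_cons, List.prod_cons, Module.End.mul_apply, LinearMap.sub_apply, Module.End.one_apply]
          exact sub_mem (Preserves.map_pairSpace x.2 _ (ih w hw)) (ih w hw)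
      exact this t'
    -- two elements of the quotient pairing nontrivially
    obtain ⟨v, hv, v', hv', hvv⟩ : ∃ v ∈ M, ∃ v' ∈ M, F.lam v v' ≠ 1 := by
      by_contra! hall
      exact hM0 ((Subgroup.eq_bot_iff_forall _).mpr fun m hm => hMD m hm (hall m hm))
    -- lifts centralized by the tail
    set S := (Subgroup.closure {x | x ∈ t'}).map (presGroup Cq lam).subtype with hS
    have hScl : Subgroup.closure {x | x ∈ t'} ≤ E := (Subgroup.closure_le _).mpr fun x hx => ht'E x hx
    have hS2 : IsPGroup 2 S := by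
      refine IsPGroup.map (fun x => ⟨1, Subtype.ext ?_⟩) _
      rw [pow_one, sq]
      exact hE x (hScl x.2)
    have hlift : ∀ m ∈ M, ∃ y : Cq, π y = m ∧ ∀ x ∈ t', Commute (ρ (y : Γ)) (ρ (x : Γ) - 1) := by
      intro m hm
      obtain ⟨k, rfl⟩ := hπ m
      have hcop : (Nat.card S).Coprime (Nat.card Cq) := by
        obtain ⟨i, hi⟩ := hS2.exists_card_eq
        obtain ⟨j, hj⟩ := hCqq.exists_card_eq
        rw [hi, hj]
        exact Nat.Coprime.pow _ _ (Nat.coprime_two_left.mpr hqo)
      have hRC : ∀ y : Γ, y ∈ radSub h → y ∈ Cq := fun y hy => hy.1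
      obtain ⟨c, ⟨hcCq, hcS⟩, hck⟩ := Cfsg.Agent.Coprime.exists_fixed_mod (A := S) (K := Cq) (N := radSub h) hcop
        (Or.inl (by haveI := hS2.isNilpotent; infer_instance)) hRC
        (Subgroup.le_normalizer_iff.mpr fun g hg n hn => by
          have h1 := mul_mem (hcomR0 g hg n hn.1) hn
          rwa [show ⁅g, n⁆ * n = g * n * g⁻¹ by rw [commutatorElement_def]; group] at h1)
        (Subgroup.le_normalizer_iff.mpr fun g hg n hn => by
          obtain ⟨x, -, rfl⟩ := hg
          exact Preserves.conj_radSub x.2 hn)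
        k.2 (fun g hg => by
          obtain ⟨x, hx, rfl⟩ := hg
          have hxk : φ x (π k) = π k := by
            induction hx using Subgroup.closure_induction with
            | mem x hx => exact hfix x hx _ hm
            | one => rw [map_one, MulAut.one_apply]
            | mul u v _ _ hu hv => rw [map_mul, MulAut.mul_apply, hv, hu]
            | inv u _ hu =>
              rw [map_inv]
              nth_rw 1 [← hu]
              exact MulAut.inv_apply_self A _ _
          rw [hφ] at hxk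
          have h1 : π (MulAut.conjNormal (x : Γ) k * k⁻¹) = 1 := by rw [map_mul, map_inv, hxk, mul_inv_cancel]
          have h2 := (hrad _).mp h1
          rwa [Subgroup.coe_mul, Subgroup.coe_inv, MulAut.conjNormal_apply] at h2)
      refine ⟨⟨c, hcCq⟩, ?_, fun x hx => ?_⟩
      · have h1 : π (k⁻¹ * ⟨c, hcCq⟩) = 1 := (hrad _).mpr (by simpa using hck)
        rw [map_mul, map_inv, inv_mul_eq_one] at h1
        exact h1.symm
      · have h1 : Commute c (x : Γ) :=
          (Subgroup.mem_centralizer_iff.mp hcS x ⟨x, Subgroup.subset_closure hx, rfl⟩).symm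
        exact (h1.map ρ).sub_right (Commute.one_right _)
    obtain ⟨y, hy, hyc⟩ := hlift v hv
    obtain ⟨y', hy', hy'c⟩ := hlift v' hv'
    have hRy : ∀ y : Cq, (∀ x ∈ t', Commute (ρ (y : Γ)) (ρ (x : Γ) - 1)) → Commute (ρ (y : Γ)) R := fun y hy =>
      Commute.list_prod_right _ _ fun f hf => by
        obtain ⟨x, hx, rfl⟩ := List.mem_map.mp hf
        exact hy x hx
    have hap : ∀ {g : Γ} {u : V}, ρ g (ρ g⁻¹ u) = u := fun {g u} => by
      rw [← Module.End.mul_apply, ← map_mul, mul_inv_cancel, map_one, Module.End.one_apply]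
    set z := (a : Γ) * (y : Γ) * (a : Γ) * (y : Γ)⁻¹ with hz
    have hai : (a : Γ)⁻¹ = (a : Γ) := congrArg Subtype.val (hinv a haE)
    have hzeq : z = ((MulAut.conjNormal (a : Γ) y * y⁻¹ : Cq) : Γ) := by
      rw [Subgroup.coe_mul, Subgroup.coe_inv, MulAut.conjNormal_apply, hai]
    have hzC : z ∈ Cq := hzeq ▸ SetLike.coe_mem _
    have hzR : ∀ w ∈ pairSpace ρ Cq lam, ρ z (R w) = R w := by
      intro w hw
      have hc : Commute (ρ (y : Γ)⁻¹) R := hRy y⁻¹ fun x hx => by
        rw [Subgroup.coe_inv]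
        exact Commute.units_inv_left (u := ⟨ρ (y : Γ), ρ (y : Γ)⁻¹, by rw [← map_mul, mul_inv_cancel, map_one],
          by rw [← map_mul, inv_mul_cancel, map_one]⟩) (hyc x hx)
      have hw' := h.invariant (inv_mem y.2) w hw
      rw [hz, map_mul, map_mul, map_mul, Module.End.mul_apply, Module.End.mul_apply, Module.End.mul_apply,
        ← Module.End.mul_apply (ρ (y : Γ)⁻¹) R, hc.eq, Module.End.mul_apply, hRfix _ hw',
        ← Module.End.mul_apply (ρ (y : Γ)) R, (hRy y hyc).eq, Module.End.mul_apply, hap, hRfix w hw]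
    refine hw₀0 (by_contra fun hne => ?_)
    have hval : ρ ⁅z, (y' : Γ)⁆ (R w₀) = R w₀ := by
      have hc : Commute (ρ (y' : Γ)⁻¹) R := hRy y'⁻¹ fun x hx => by
        rw [Subgroup.coe_inv]
        exact Commute.units_inv_left (u := ⟨ρ (y' : Γ), ρ (y' : Γ)⁻¹, by rw [← map_mul, mul_inv_cancel, map_one],
          by rw [← map_mul, inv_mul_cancel, map_one]⟩) (hy'c x hx)
      have hw' := h.invariant (inv_mem y'.2) w₀ hw₀
      have hz' : ρ z⁻¹ (R (ρ (y' : Γ)⁻¹ w₀)) = R (ρ (y' : Γ)⁻¹ w₀) := by
        nth_rw 1 [← hzR _ hw']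
        rw [← Module.End.mul_apply, ← map_mul, inv_mul_cancel, map_one, Module.End.one_apply]
      rw [commutatorElement_def, map_mul, map_mul, map_mul, Module.End.mul_apply, Module.End.mul_apply,
        Module.End.mul_apply, ← Module.End.mul_apply (ρ (y' : Γ)⁻¹) R, hc.eq, Module.End.mul_apply, hz',
        ← Module.End.mul_apply (ρ (y' : Γ)) R, (hRy y' hy'c).eq, Module.End.mul_apply, hap, hzR w₀ hw₀]
    rw [mem_pairSpace (hRmem w₀ hw₀) hzC y'.2] at hval
    have h1 : lam z (y' : Γ) = 1 := smul_left_injective K hne (hval.trans (one_smul K _).symm)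
    rw [hzeq, ← hF, map_mul, map_inv, ← hφ, hy, hy', mem_neg.mp (hMa hv), F.mul_left] at h1
    refine hvv ?_
    have h2 := F.sq _ _ h1
    have h3 := F.mul_left v v⁻¹ v'
    rw [mul_inv_cancel, F.one_left, h2, mul_one] at h3
    exact h3.symm

end Cfsg.Agent.GenA.TwoLengthDerived
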