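import Cfsg.Agent.GenA.TwoLengthDerived.Orbit
import Cfsg.Agent.GenA.TwoLengthDerived.Pairing
import Cfsg.Agent.GenA.TwoLengthSharp.Global
import Cfsg.Agent.GenA.TwoLengthSharp.Sections
import Cfsg.Agent.Lib.PLocal.DerivedLength.Main

/-!
A faithful module in characteristic two on which all products of differences along the derived terms of a Sylow
`2`-subgroup vanish: modulo the core of odd order the last term lies in a normal elementary `2`-group killed by
the iterated commutators with the terms before it.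
-/

set_option autoImplicit false
set_option linter.style.haveILetI false
set_option linter.unusedSectionVars false

namespace Cfsg.Agent.GenA.TwoLengthDerived

open Cfsg Subgroup
open Module (End)
open Cfsg.Agent.GenA.TwoLength
open Cfsg.Agent.GenA.ShultGross (eigen_indep)
open Cfsg.Agent.GenA.ShultGross.Two hiding orbit stage_one abelian_fix lower
open Cfsg.Agent.GenA.TwoLengthSharp (exists_lift invCentre normalizes_invCentre centralizes_of_pairings
  le_of_le_sup_commutator)
open Cfsg.Agent.PLocal.DerivedLength (term term_zero term_succ term_le conj_mem_term)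
open scoped commutatorElement

universe u

variable {H : Type u} [Group H] [Finite H] [Group.IsSolvable H] {K : Type*} [Field K] [CharP K 2] [IsAlgClosed K]
  {V : Type*} [AddCommGroup V] [Module K V] [FiniteDimensional K V]

set_option maxHeartbeats 2000000 in
/-- The normal subgroup containing the last term. -/
theorem exists_stable (hO : pCore 2 H = ⊥) (τ : H →* End K V) (hτ : Function.Injective τ) (P : Sylow 2 H) (e : ℕ)
    (hlast : term (P : Subgroup H) (e + 2) = ⊥)
    (hz : ∀ c : ℕ → H, (∀ l, c l ∈ term (P : Subgroup H) l) → chain τ c 0 (e + 2) = 0) :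
    ∃ N : Subgroup (H ⧸ pPrimeCore 2 H), N.Normal ∧ N ≤ pCore 2 (H ⧸ pPrimeCore 2 H) ∧
      (term (P : Subgroup H) (e + 1)).map (QuotientGroup.mk' (pPrimeCore 2 H)) ≤ N ∧
      ∀ c : ℕ → H, (∀ l, c l ∈ term (P : Subgroup H) l) → ∀ z ∈ N,
        comm (fun l => QuotientGroup.mk' (pPrimeCore 2 H) (c l)) z (e + 1) = 1 := by
  classical
  haveI h2f : Fact (Nat.Prime 2) := ⟨Nat.prime_two⟩
  have hqK : ∀ q : ℕ, q.Prime → q ≠ 2 → (q : K) ≠ 0 := fun q hq h2 h =>
    h2 ((Nat.prime_dvd_prime_iff_eq Nat.prime_two hq).mp ((CharP.cast_eq_zero_iff K 2 q).mp h)).symm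
  obtain ⟨T, hTdef⟩ : ∃ T : ℕ → Subgroup H, ∀ i, T i = term (P : Subgroup H) i := ⟨_, fun _ => rfl⟩
  simp only [← hTdef] at hlast hz ⊢
  have hT : ∀ i, T (i + 1) = ⁅T i, T i⁆ := fun i => by rw [hTdef, hTdef, term_succ]
  have hT0 : T 0 = (P : Subgroup H) := by rw [hTdef, term_zero]
  have hTP : ∀ i, T i ≤ (P : Subgroup H) := fun i => hTdef i ▸ term_le _ _
  have hanti := antitone_of_commutator hT
  have hTn : ∀ i, ∀ g ∈ (P : Subgroup H), ∀ a ∈ T i, g * a * g⁻¹ ∈ T i := fun i g hg a ha => by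
    rw [hTdef] at ha ⊢
    exact conj_mem_term hg ha
  -- the last term
  set A := T (e + 1) with hA
  have hAc : ∀ a ∈ A, ∀ b ∈ A, Commute a b := fun a ha b hb => by
    have h := commutator_mem_commutator ha hb
    rw [← hT, hlast, mem_bot] at h
    exact commutatorElement_eq_one_iff_commute.mp h
  have htwo : ∀ x : End K V, x + x = 0 := fun x => by rw [← two_smul K x, CharTwo.two_eq_zero, zero_smul]
  have hquad := quadratic τ htwo T hT e hz
  have hA2 : ∀ a ∈ A, a * a = 1 := fun a ha => hτ (by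
    have h := hquad a ha a ha
    rwa [sub_one_sq τ htwo, sub_eq_zero, ← map_one τ] at h)
  have hlevel : ∀ {S : Type u} (f : S → End K V) (θ : H →* Equiv.Perm S)
      (_ : ∀ g ∈ (P : Subgroup H), ∀ s, f s * τ g = τ g * f (θ g⁻¹ s)) (χ : S → K), eigs f χ ≠ ⊥ →
      ∃ j < e + 2, (∀ g ∈ T j, ∀ s, χ (θ g s) = χ s) ∧
        ∀ c : ℕ → H, (∀ l, c l ∈ T l) → ∀ u ∈ eigs f χ, chain τ c j (e + 2 - j) u = 0 :=
    fun f θ hf χ hχ => exists_level f τ θ P.isPGroup' hf T hT0.le hT hlast hz χ hχ
  -- the centralizer of the abelian normal subgroups of odd prime power order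
  set Ab : Set H := {a | ∃ (A : Subgroup H) (q : ℕ), A.Normal ∧ q.Prime ∧ q ≠ 2 ∧ IsPGroup q A ∧
    (∀ b ∈ A, ∀ c ∈ A, Commute b c) ∧ a ∈ A} with hAb
  set N1 := centralizer Ab with hN1
  haveI : N1.Normal := ⟨fun n hn g => mem_centralizer_iff.mpr fun a ⟨A, q, hA, h1, h2, h3, h4, ha⟩ => by
    have h := mem_centralizer_iff.mp hn (g⁻¹ * a * g) ⟨A, q, hA, h1, h2, h3, h4, by
      simpa using hA.conj_mem a ha g⁻¹⟩
    calc a * (g * n * g⁻¹) = g * (g⁻¹ * a * g * n) * g⁻¹ := by group
      _ = _ := by rw [h]; group⟩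
  have hAN : A ≤ N1 := fun a ha => mem_centralizer_iff.mpr fun b ⟨B, q, hB, hq, h2, hBq, hBc, hb⟩ => by
    haveI := hB
    obtain ⟨k, hk⟩ := hBq ⟨_, mul_mem (hB.conj_mem b hb a) (inv_mem hb)⟩
    have h : τ (a * b * a⁻¹ * b⁻¹) = 1 := by
      refine eq_one_of_joint (fun s : B => τ s) (fun s s' => (hBc s s.2 s' s'.2).map τ) _
        (fun s => (hBc _ (mul_mem (hB.conj_mem b hb a) (inv_mem hb)) s s.2).map τ) (N := q ^ k)
        (by rw [Nat.cast_pow]; exact pow_ne_zero k (hqK q hq h2))
        (by rw [← map_pow, show (a * b * a⁻¹ * b⁻¹) ^ q ^ k = 1 by simpa using congrArg Subtype.val hk, map_one])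
        fun χ w hw => ?_
      by_cases hχ : eigs (fun s : B => τ s) χ = ⊥
      · rw [hχ, Submodule.mem_bot] at hw
        rw [hw, map_zero]
      obtain ⟨θ, hθ⟩ : ∃ θ : H →* Equiv.Perm B, ∀ g s, θ g s = MulAut.conjNormal g s :=
        ⟨(MulAut.toPerm B).comp MulAut.conjNormal, fun _ _ => rfl⟩
      obtain ⟨j, hj, hfix, -⟩ := hlevel (fun s : B => τ s) θ (fun g _ s => by
        rw [hθ, ← map_mul, ← map_mul, MulAut.conjNormal_apply]
        congr 1
        group) χ hχ
      have hs := hfix a (hanti (by omega) ha) ⟨b, hb⟩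
      have hw' : τ b⁻¹ w ∈ eigs (fun s : B => τ s) χ :=
        eigs_invariant (f := fun s : B => τ s) (fun s => (hBc _ (inv_mem hb) s s.2).map τ) w hw
      have h3 := mem_eigs.mp hw' (θ a ⟨b, hb⟩)
      rw [hs, hθ, MulAut.conjNormal_apply] at h3
      rw [show a * b * a⁻¹ * b⁻¹ = a * b * a⁻¹ * b⁻¹ from rfl, map_mul, Module.End.mul_apply, h3,
        ← show τ b (τ b⁻¹ w) = χ ⟨b, hb⟩ • τ b⁻¹ w from mem_eigs.mp hw' ⟨b, hb⟩, ← Module.End.mul_apply,
        ← map_mul, mul_inv_cancel, map_one, Module.End.one_apply]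
    exact (commutatorElement_eq_one_iff_commute.mp (hτ (h.trans (map_one τ).symm))).symm.eq
  -- modulo the core of odd order
  set K0 := pPrimeCore 2 H with hK0
  haveI : K0.Normal := Cores.pPrimeCore_normal 2
  set π := QuotientGroup.mk' K0 with hπ
  have hπs := QuotientGroup.mk'_surjective K0
  have hinjP : ∀ a ∈ (P : Subgroup H), π a = 1 → a = 1 := fun a ha h => by
    have h1 : a ∈ (P : Subgroup H) ⊓ K0 := ⟨ha, (QuotientGroup.eq_one_iff a).mp h⟩
    rwa [PLocal.Cores.inf_eq_bot_of_isPGroup_of_coprime P.isPGroup' PLocal.Cores.coprime_card_pPrimeCore,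
      mem_bot] at h1
  set Nb := N1.map π with hNb
  haveI hNbn : Nb.Normal := (inferInstance : N1.Normal).map π hπs
  haveI : (pCore 2 Nb).Characteristic := Cores.pCore_characteristic 2
  set B1 := (pCore 2 Nb).map Nb.subtype with hB1
  haveI hB1n : B1.Normal := by rw [hB1]; infer_instance
  have hB1N : B1 ≤ Nb := map_subtype_le _
  have hB12 : IsPGroup 2 B1 := (Cores.pCore_isPGroup 2).map _
  have hB1C : ∀ g ∈ Nb, g ∈ centralizer (B1 : Set (H ⧸ K0)) → g ∈ B1 := by
    intro g hg hgc
    have hO' : pPrimeCore 2 Nb = ⊥ := by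
      rw [← (pPrimeCore 2 Nb).map_eq_bot_iff_of_injective Nb.subtype_injective, ← le_bot_iff]
      exact (PLocal.Cores.map_subtype_pPrimeCore_le Nb).trans (Cores.pPrimeCore_quotient_self 2).le
    refine ⟨⟨g, hg⟩, PLocal.PSolvable.centralizer_pCore_le hO' ?_ (mem_centralizer_iff.mpr fun b hb => ?_), rfl⟩
    · exact PLocal.SolvableSeparable.isPSolvable_of_isSolvable 2 _
    · exact Subtype.ext (mem_centralizer_iff.mp hgc b (mem_map_of_mem _ hb))
  -- elements of the Sylow subgroup centralizing the odd parts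
  set C := (P : Subgroup H) ⊓ N1 with hC
  have hC2 : IsPGroup 2 C := P.isPGroup'.to_le inf_le_left
  have hkey : ∀ d ∈ C, (∀ (q : ℕ) [Fact q.Prime], Odd q → (q : K) ≠ 0 →
      ∀ (Cq : Subgroup H) [Cq.Normal], IsPGroup q Cq → ∀ (lam : H → H → K) (h : Pairing τ Cq lam),
      (∀ a ∈ Cq, ∀ c ∈ Cq, ⁅a, c⁆ ∈ radSub h) → (∀ a ∈ Cq, a ^ q ∈ radSub h) →
      (∀ g ∈ C, Preserves Cq lam g) → ∀ j < e + 2, (∀ g ∈ T j, Preserves Cq lam g) →
      (∀ c : ℕ → H, (∀ l, c l ∈ T l) → ∀ u ∈ pairSpace τ Cq lam, chain τ c j (e + 2 - j) u = 0) →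
      ∀ a ∈ Cq, a⁻¹ * (d * a * d⁻¹) ∈ radSub h) → d = 1 := by
    intro d hd hall
    refine eq_one_of_centralizes_odd hO (by
      obtain ⟨i, hi⟩ := hC2 ⟨d, hd⟩
      exact ⟨i, by simpa using congrArg Subtype.val hi⟩) fun q hq h2 => ?_
    haveI := Fact.mk hq
    refine centralizes_of_pairings (hq.odd_of_ne_two h2) (hqK q hq h2) τ hτ (pCore q H) (Cores.pCore_isPGroup q)
      C hC2 (fun B hB hBq hBc c hc => mem_centralizer_iff.mpr fun a ha =>
        mem_centralizer_iff.mp hc.2 a ⟨B, q, hB, hq, h2, hBq, hBc, ha⟩) hd ?_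
    intro Cq hCqn hCqq lam h hcomR hpowR hCp
    haveI := hCqn
    obtain ⟨θ, hθ⟩ : ∃ θ : H →* Equiv.Perm (Cq × Cq),
        ∀ g s, θ g s = (MulAut.conjNormal g s.1, MulAut.conjNormal g s.2) :=
      ⟨MonoidHom.mk' (fun g => (MulAut.conjNormal g).toEquiv.prodCongr (MulAut.conjNormal g).toEquiv)
        (fun a b => Equiv.ext fun s => by simp [Prod.ext_iff]), fun _ _ => rfl⟩
    obtain ⟨j, hj, hfix, hkill⟩ := hlevel (fun p : Cq × Cq => τ ⁅(p.1 : H), (p.2 : H)⁆) θ (fun g _ s => by
      rw [hθ, ← map_mul, ← map_mul]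
      simp only [MulAut.conjNormal_apply, commutatorElement_def]
      congr 1
      group) (fun p => lam p.1 p.2) h.ne
    refine hall q (hq.odd_of_ne_two h2) (hqK q hq h2) Cq hCqq lam h hcomR hpowR hCp j hj (fun g hg => ?_) hkill
    refine ⟨fun x hx => hCqn.conj_mem x hx g, fun x hx y hy => ?_⟩
    have hs := hfix g hg (⟨x, hx⟩, ⟨y, hy⟩)
    simpa [hθ, MulAut.conjNormal_apply] using hs
  -- the last term is central in the elements centralizing the abelian parts
  have hAC : ∀ a ∈ A, ∀ c ∈ C, Commute c a := fun a ha c hc => by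
    have haC : a ∈ C := ⟨hTP _ ha, hAN ha⟩
    refine commutatorElement_eq_one_iff_commute.mp (hkey _
      (mul_mem (mul_mem (mul_mem hc haC) (inv_mem hc)) (inv_mem haC)) ?_)
    intro q _ hqo _ Cq _ hCqq lam h hcomR hpowR hCp j hj hjp _ y hy
    have hCle : C ≤ presGroup Cq lam := fun g hg => hCp g hg
    have hAle : A ≤ presGroup Cq lam := fun g hg => hjp g (hanti (by omega) hg)
    obtain ⟨Aq, _, _, F, φ, π', hπ', hexp, hisom, hφ, hF, hrad⟩ := exists_frame hqo hCqq h hcomR hpowR
    have ha'A : c * a * c⁻¹ ∈ A := hTn _ c hc.1 a ha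
    set ag : presGroup Cq lam := ⟨a, hAle ha⟩ with hag
    set cg : presGroup Cq lam := ⟨c, hCle hc⟩ with hcg
    have hd : φ (cg * ag * cg⁻¹ * ag⁻¹) = 1 := by
      rw [map_mul, map_inv φ ag, mul_inv_eq_one]
      by_cases h1 : φ ag = 1
      · rw [map_mul, map_mul, h1, mul_one, map_inv, mul_inv_cancel]
      by_contra hne
      set E := A.subgroupOf (presGroup Cq lam) with hE
      obtain ⟨w, hw, hw0⟩ := exists_prod_ne_zero hqo hCqq h hcomR hexp φ hisom π' hπ' hφ hF hrad E
        (fun x hx => Subtype.ext (hA2 _ hx)) [cg * ag * cg⁻¹, ag] (by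
          intro x hx
          simp only [List.mem_cons, List.not_mem_nil, or_false] at hx
          rcases hx with rfl | rfl
          exacts [mem_subgroupOf.mpr ha'A, mem_subgroupOf.mpr ha]) (by
          refine ⟨fun hx => ?_, fun hx => ?_, trivial⟩
          · rw [show φ '' {x | x ∈ [ag]} = insert (φ ag) ∅ by simp] at hx
            obtain ⟨z, hz, hz'⟩ := mem_closure_insert (by
              rw [← map_mul, show ag * ag = 1 from Subtype.ext (hA2 a ha), map_one]) (by simp) hx
            rw [Subgroup.closure_empty, mem_bot] at hz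
            subst hz
            rcases hz' with hz' | hz'
            · refine h1 ?_
              rw [map_mul, map_mul, map_inv, mul_inv_eq_one] at hz'
              exact mul_eq_left.mp hz'
            · exact hne (hz'.trans (mul_one _))
          · rw [show φ '' {x | x ∈ ([] : List (presGroup Cq lam))} = ∅ by simp, Subgroup.closure_empty, mem_bot] at hx
            exact h1 hx)
      refine hw0 ?_
      simp only [List.map_cons, List.map_nil, List.prod_cons, List.prod_nil, mul_one]
      rw [show ((cg * ag * cg⁻¹ : presGroup Cq lam) : H) = c * a * c⁻¹ from rfl,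
        hquad (c * a * c⁻¹) ha'A a ha, LinearMap.zero_apply]
    have h2 := DFunLike.congr_fun hd (π' ⟨y, hy⟩)
    rw [hφ, MulAut.one_apply] at h2
    have h3 : π' (⟨y, hy⟩⁻¹ * MulAut.conjNormal ((cg * ag * cg⁻¹ * ag⁻¹ : presGroup Cq lam) : H) ⟨y, hy⟩) = 1 := by
      rw [map_mul, map_inv, h2, inv_mul_cancel]
    have h4 := (hrad _).mp h3
    rw [Subgroup.coe_mul, Subgroup.coe_inv, MulAut.conjNormal_apply] at h4
    exact h4
  -- the normal elementary subgroup
  haveI hNn : (invCentre B1).Normal :=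
    ⟨fun z hz g => normalizes_invCentre (fun t ht => hB1n.conj_mem t ht g) z hz⟩
  set N := invCentre B1 with hN
  have hNN : N ≤ Nb := fun z hz => hB1N hz.1
  have hN2 : IsPGroup 2 N := hB12.to_le fun z hz => hz.1
  have hAπ : A.map π ≤ N := by
    rintro _ ⟨a, ha, rfl⟩
    have hc : ∀ z ∈ B1, Commute (π a) z := fun z hz => by
      obtain ⟨c, hc, rfl⟩ := exists_lift P π N1 hB12 hB1N z hz
      exact ((hAC a ha c ⟨hc.1, hc.2.1⟩).symm).map π
    refine ⟨hB1C _ (mem_map_of_mem π (hAN ha)) (mem_centralizer_iff.mpr fun z hz => (hc z hz).eq.symm), hc, ?_⟩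
    rw [← map_mul, hA2 a ha, map_one]
  set D0 := (P : Subgroup H) ⊓ (N1 ⊓ N.comap π) with hD0
  haveI : (N1 ⊓ N.comap π).Normal := inferInstance
  have hD0P : ∀ g ∈ (P : Subgroup H), ∀ a ∈ D0, g * a * g⁻¹ ∈ D0 := fun g hg a ha =>
    ⟨(P : Subgroup H).mul_mem ((P : Subgroup H).mul_mem hg ha.1) ((P : Subgroup H).inv_mem hg),
      (inferInstance : (N1 ⊓ N.comap π).Normal).conj_mem a ha.2 g⟩
  have hD0C : D0 ≤ C := fun x hx => ⟨hx.1, hx.2.1⟩
  have hD02 : ∀ x ∈ D0, x * x = 1 := fun x hx => hinjP _ (mul_mem hx.1 hx.1) (by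
    rw [map_mul]; exact hx.2.2.2.2)
  have hlev : ∀ i, levels T D0 i ≤ D0 := levels_le_self T hTP hD0P
  have hlevn := levels_conj (P := (P : Subgroup H)) T hTn hD0P
  have hlevanti : ∀ i, levels T D0 (i + 1) ≤ levels T D0 i := fun i =>
    commutator_le.mpr fun t ht a ha => by
      rw [commutatorElement_def]
      exact mul_mem (hlevn i t (hTP i ht) a ha) (inv_mem ha)
  have hlevlast : levels T D0 (e + 2) = ⊥ :=
    le_bot_iff.mp (hlast ▸ levels_le_term T hT D0 (hT0.symm ▸ inf_le_left) (e + 2))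
  have hzero : ∀ x ∈ levels T D0 (e + 1), x = 1 := by
    intro x hx
    refine hkey x (hD0C (hlev _ hx)) ?_
    intro q _ hqo _ Cq _ hCqq lam h hcomR hpowR hCp j hj hjp hkill y hy
    have hCle : C ≤ presGroup Cq lam := fun g hg => hCp g hg
    set Γ1 := presGroup Cq lam with hΓ1
    obtain ⟨Aq, _, _, F, φ, π', hπ', hexp, hisom, hφ, hF, hrad⟩ := exists_frame hqo hCqq h hcomR hpowR
    obtain ⟨L, hL⟩ : ∃ L : ℕ → Subgroup (MulAut Aq), ∀ i, L i = ((levels T D0 i).subgroupOf Γ1).map φ :=
      ⟨_, fun _ => rfl⟩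
    have hlevle : ∀ i, levels T D0 i ≤ Γ1 := fun i => ((hlev i).trans hD0C).trans hCle
    have hTle : ∀ i, j ≤ i → T i ≤ Γ1 := fun i hi g hg => hjp g (hanti hi hg)
    set R := ((P : Subgroup H).subgroupOf Γ1).map φ with hR
    have hstep : ∀ i, j ≤ i → L (i + 1) ≤ ⁅L i, R⁆ := fun i hi => by
      have h1 : (levels T D0 (i + 1)).subgroupOf Γ1 ≤ ⁅(T i).subgroupOf Γ1, (levels T D0 i).subgroupOf Γ1⁆ := by
        rw [← Subgroup.map_le_map_iff_of_injective Γ1.subtype_injective, subgroupOf_map_subtype, map_commutator,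
          subgroupOf_map_subtype, subgroupOf_map_subtype, inf_eq_left.mpr (hTle i hi), inf_eq_left.mpr (hlevle i)]
        exact inf_le_left
      rw [hL, hL, Subgroup.commutator_comm]
      refine (map_mono h1).trans ?_
      rw [map_commutator]
      exact commutator_mono (map_mono (comap_mono (hTP i))) le_rfl
    have hmem : φ ⟨x, hlevle _ hx⟩ = 1 := by
      by_contra hne
      have htop : L (e + 1) ≠ ⊥ := fun e1 => hne (by
        have : φ ⟨x, hlevle _ hx⟩ ∈ L (e + 1) := hL (e + 1) ▸ mem_map_of_mem φ (mem_subgroupOf.mpr hx)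
        rwa [e1, mem_bot] at this)
      have hne' : ∀ i, j ≤ i → i ≤ e + 1 → L i ≠ ⊥ := fun i hi hie e1 => htop (by
        suffices hk : ∀ k, L (i + k) = ⊥ by
          have := hk (e + 1 - i)
          rwa [Nat.add_sub_cancel' hie] at this
        intro k
        induction k with
        | zero => exact e1
        | succ k ih =>
          refine le_bot_iff.mp ((hstep (i + k) (by omega)).trans ?_)
          rw [ih, commutator_bot_left])
      haveI : Group.IsNilpotent R := ((P.isPGroup'.comap_subtype (K := Γ1)).map φ).isNilpotent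
      have hlt : ∀ i, j ≤ i → i ≤ e + 1 → ¬ L i ≤ L (i + 1) := fun i hi hie hle => hne' i hi hie <| le_bot_iff.mp <|
        le_of_le_sup_commutator (R := R) (A := ⊥) (by
          rw [hL]; exact map_mono (comap_mono ((hlev i).trans inf_le_left)))
          ((hle.trans (hstep i hi)).trans le_sup_right)
      have hLanti : ∀ i, L (i + 1) ≤ L i := fun i => by
        rw [hL, hL]; exact map_mono (comap_mono (hlevanti i))
      set E := D0.subgroupOf Γ1 with hE
      have hbuild : ∀ m i, j ≤ i → i + m = e + 2 → ∃ (c : ℕ → H) (l : List Γ1), (∀ k, c k ∈ T k) ∧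
          (∀ z ∈ l, z ∈ E) ∧ (∀ z ∈ l, φ z ∈ L i) ∧ Indep φ l ∧
          (l.map fun z : Γ1 => τ (z : H) - 1).prod = chain τ c i m := by
        intro m
        induction m with
        | zero =>
          intro i _ _
          exact ⟨fun _ => 1, [], fun _ => one_mem _, by simp, by simp, trivial, by rw [chain_zero]; rfl⟩
        | succ m ih =>
          intro i hi him
          obtain ⟨c, l, hc, hlE, hlL, hind, hprod⟩ := ih (i + 1) (by omega) (by omega)
          obtain ⟨w, hw, hwn⟩ := SetLike.not_le_iff_exists.mp (hlt i hi (by omega))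
          rw [hL] at hw
          obtain ⟨g, hg, rfl⟩ := hw
          have hgl : (g : H) ∈ levels T D0 i := mem_subgroupOf.mp hg
          have hgT : (g : H) ∈ T i := levels_le_term T hT D0 (hT0.symm ▸ inf_le_left) i hgl
          refine ⟨Function.update c i g, g :: l, fun k => ?_, ?_, ?_, ⟨fun hg' => hwn ?_, hind⟩, ?_⟩
          · rcases eq_or_ne k i with rfl | hk
            · rw [Function.update_self]; exact hgT
            · rw [Function.update_of_ne hk]; exact hc k
          · rintro z (_ | ⟨_, hz⟩)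
            exacts [mem_subgroupOf.mpr (hlev i hgl), hlE z hz]
          · rintro z (_ | ⟨_, hz⟩)
            exacts [hL i ▸ mem_map_of_mem φ hg, hLanti i (hlL z hz)]
          · refine (closure_le _).mpr ?_ hg'
            rintro _ ⟨z, hz, rfl⟩
            exact hlL z hz
          · rw [List.map_cons, List.prod_cons, chain_split, Function.update_self,
              chain_congr τ (c' := c) (i + 1) m fun k h1 _ => Function.update_of_ne (by omega) _ c, ← hprod]
            refine (Commute.list_prod_right _ _ fun f hf => ?_).eq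
            obtain ⟨z, hz, rfl⟩ := List.mem_map.mp hf
            have hgz : Commute (g : H) (z : H) := by
              have hi' : ∀ {x}, x ∈ D0 → x⁻¹ = x := fun hx => (eq_inv_of_mul_eq_one_left (hD02 _ hx)).symm
              calc (g : H) * z = ((g : H) * z)⁻¹ :=
                    (hi' (D0.mul_mem (hlev i hgl) (mem_subgroupOf.mp (hlE z hz)))).symm
                _ = z * g := by rw [mul_inv_rev, hi' (hlev i hgl), hi' (mem_subgroupOf.mp (hlE z hz))]
            exact ((hgz.map τ).sub_left (Commute.one_left _)).sub_right (Commute.one_right _)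
      obtain ⟨c, l, hc, hlE, -, hind, hprod⟩ := hbuild (e + 2 - j) j le_rfl (by omega)
      obtain ⟨w, hw, hw0⟩ := exists_prod_ne_zero hqo hCqq h hcomR hexp φ hisom π' hπ' hφ hF hrad E
        (fun z hz => Subtype.ext (hD02 _ hz)) l hlE hind
      exact hw0 (by rw [hprod]; exact hkill c hc w hw)
    have h2 := DFunLike.congr_fun hmem (π' ⟨y, hy⟩)
    rw [hφ, MulAut.one_apply] at h2
    have h3 : π' (⟨y, hy⟩⁻¹ * MulAut.conjNormal x ⟨y, hy⟩) = 1 := by rw [map_mul, map_inv, h2, inv_mul_cancel]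
    have h4 := (hrad _).mp h3
    rw [Subgroup.coe_mul, Subgroup.coe_inv, MulAut.conjNormal_apply] at h4
    exact h4
  refine ⟨N, hNn, Cores.le_pCore hN2, hAπ, fun c hc z hz => ?_⟩
  obtain ⟨m, hm, rfl⟩ := exists_lift P π N1 hN2 hNN z hz
  rw [map_comm, hzero _ (comm_mem_levels T D0 hc hm (e + 1)), map_one]

end Cfsg.Agent.GenA.TwoLengthDerived
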