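import Cfsg.Agent.GenA.TwoLengthDerived.Chain
import Cfsg.Agent.GenA.TwoLengthSharp.Sections

/-!
A module on the factors of a chief series between two normal subgroups inside a normal `2`-group, on which the
products of differences along given sets vanish if the iterated commutators with those sets lead from the upper
subgroup into the lower one.
-/

set_option autoImplicit false
set_option linter.style.haveILetI false
set_option linter.unusedSectionVars false

namespace Cfsg.Agent.GenA.TwoLengthDerived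

open Subgroup
open Module (End)
open Cfsg.Agent.GenA.TwoLengthSharp (le_of_le_sup_commutator)
open Cfsg.Agent.PLocal.PLengthBound (exists_linear_rep)
open scoped commutatorElement

universe u

variable {G : Type u} [Group G] [Finite G]

set_option maxHeartbeats 1000000 in
/-- The module of the factors. -/
theorem exists_section_rep (R : Subgroup G) [R.Normal] (hR : IsPGroup 2 R) (Y : ℕ → Set G) (h : ℕ) (A : Subgroup G)
    [A.Normal] : ∀ B : Subgroup G, B.Normal → A ≤ B → B ≤ R →
      (∀ c : ℕ → G, (∀ l, c l ∈ Y l) → ∀ w ∈ B, comm c w h ∈ A) →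
      ∃ (W : Type u) (_ : AddCommGroup W) (_ : Module (ZMod 2) W) (_ : Finite W) (ρ : G →* End (ZMod 2) W),
        R ≤ ρ.ker ∧ (∀ c : ℕ → G, (∀ l, c l ∈ Y l) → chain ρ c 0 h = 0) ∧
          ∀ e ∈ ρ.ker, Odd (orderOf e) → ∀ b ∈ B, ⁅b, e⁆ ∈ A := by
  classical
  haveI : Fact (Nat.Prime 2) := ⟨Nat.prime_two⟩
  intro B
  induction B using WellFoundedLT.induction with
  | ind B ih =>
  intro hBn hAB hBR hmove
  haveI := hBn
  rcases hAB.eq_or_lt with rfl | hlt
  · refine ⟨PUnit.{u + 1}, inferInstance, inferInstance, inferInstance, 1,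
      fun g _ => MonoidHom.mem_ker.mpr rfl, fun c _ => ?_, fun e _ _ b hb => ?_⟩
    · exact LinearMap.ext fun v => Subsingleton.elim _ _
    · rw [commutatorElement_def, mul_assoc, mul_assoc, ← mul_assoc e]
      exact mul_mem hb ((inferInstance : A.Normal).conj_mem b⁻¹ (inv_mem hb) e)
  obtain ⟨B', ⟨hB'n, hAB', hB'B⟩, hmax⟩ : ∃ B', Maximal (fun X : Subgroup G => X.Normal ∧ A ≤ X ∧ X < B) B' := by
    obtain ⟨B', -, hB'⟩ := Finite.exists_le_maximal (p := fun X : Subgroup G => X.Normal ∧ A ≤ X ∧ X < B)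
      (a := A) ⟨inferInstance, le_rfl, hlt⟩
    exact ⟨B', hB'⟩
  haveI := hB'n
  have hmax' : ∀ X : Subgroup G, X.Normal → B' ≤ X → X ≤ B → X ≠ B → X = B' := fun X hX h1 h2 h3 =>
    le_antisymm (hmax ⟨hX, hAB'.trans h1, lt_of_le_of_ne h2 h3⟩ h1) h1
  have hB2 : IsPGroup 2 B := hR.to_le hBR
  -- the factor is central and elementary
  have hcomR : ⁅B, R⁆ ≤ B' := by
    haveI : Group.IsNilpotent R := hR.isNilpotent
    refine le_sup_right.trans (hmax' (B' ⊔ ⁅B, R⁆) inferInstance le_sup_left
      (sup_le hB'B.le (commutator_le_left B R)) fun e => ?_).le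
    exact not_le_of_gt hB'B (le_of_le_sup_commutator hBR e.ge)
  have hsq : ∀ b ∈ B, b * b ∈ B' := by
    haveI : (frattini B).Characteristic := inferInstance
    have hX : B' ⊔ (frattini B).map B.subtype = B' := by
      refine hmax' _ inferInstance le_sup_left (sup_le hB'B.le (map_subtype_le _)) fun e => ?_
      have h1 : B'.subgroupOf B ⊔ frattini B = ⊤ := by
        refine Subgroup.map_injective B.subtype_injective ?_
        rw [Subgroup.map_sup, subgroupOf_map_subtype, inf_eq_left.mpr hB'B.le, e, ← MonoidHom.range_eq_map,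
          range_subtype]
      exact not_le_of_gt hB'B (subgroupOf_eq_top.mp (frattini_nongenerating h1))
    intro b hb
    refine hX.le (mem_sup_right ⟨⟨b, hb⟩ ^ 2, Solvable.Basics.pow_mem_frattini hB2 _, ?_⟩)
    simp [sq]
  -- the factor
  set π := QuotientGroup.mk' B' with hπ
  set Bb := B.map π with hBb
  haveI : Bb.Normal := hBn.map π (QuotientGroup.mk'_surjective B')
  have hbb : ∀ b ∈ B, ∀ r ∈ R, Commute (π b) (π r) := fun b hb r hr => by
    rw [← commutatorElement_eq_one_iff_commute, ← map_commutatorElement]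
    exact (QuotientGroup.eq_one_iff _).mpr (hcomR (commutator_mem_commutator hb hr))
  letI : CommGroup Bb := { (inferInstance : Group Bb) with
    mul_comm := by
      rintro ⟨_, a, ha, rfl⟩ ⟨_, c, hc, rfl⟩
      exact Subtype.ext (hbb a ha c (hBR hc)).eq }
  let act : G → Additive Bb →+ Additive Bb := fun g =>
    MonoidHom.toAdditive (MulAut.conjNormal (H := Bb) (π g)).toMonoidHom
  obtain ⟨_, ρ₀, hρ₀⟩ := exists_linear_rep (p := 2) (M := G) (A := Additive Bb)
    (fun x => by
      obtain ⟨b, hb, e⟩ := (Additive.toMul x : Bb).2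
      refine Additive.toMul.injective (Subtype.ext ?_)
      show ((Additive.toMul x : Bb) : G ⧸ B') ^ 2 = 1
      rw [← e, ← map_pow, sq]
      exact (QuotientGroup.eq_one_iff _).mpr (hsq b hb))
    act
    (fun x => by
      refine Additive.toMul.injective (Subtype.ext ?_)
      show π 1 * ((Additive.toMul x : Bb) : G ⧸ B') * (π 1)⁻¹ = _
      rw [map_one, one_mul, inv_one, mul_one])
    (fun m n x => by
      refine Additive.toMul.injective (Subtype.ext ?_)
      show π (m * n) * ((Additive.toMul x : Bb) : G ⧸ B') * (π (m * n))⁻¹ =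
        π m * (π n * ((Additive.toMul x : Bb) : G ⧸ B') * (π n)⁻¹) * (π m)⁻¹
      rw [map_mul]; group)
  let cls : ∀ b ∈ B, Additive Bb := fun b hb => Additive.ofMul ⟨π b, mem_map_of_mem π hb⟩
  have hcls : ∀ v : Additive Bb, ∃ b, ∃ hb : b ∈ B, v = cls b hb := fun v => by
    obtain ⟨b, hb, e⟩ := (Additive.toMul v : Bb).2
    exact ⟨b, hb, Additive.toMul.injective (Subtype.ext e.symm)⟩
  have hρcls : ∀ (g : G) (b : G) (hb : b ∈ B), ρ₀ g (cls b hb) = cls (g * b * g⁻¹) (hBn.conj_mem b hb g) :=
    fun g b hb => by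
    rw [hρ₀]
    refine Additive.toMul.injective (Subtype.ext ?_)
    show π g * π b * (π g)⁻¹ = π (g * b * g⁻¹)
    rw [map_mul, map_mul, map_inv]
  have hR₀ : R ≤ ρ₀.ker := fun r hr => MonoidHom.mem_ker.mpr (LinearMap.ext fun v => by
    obtain ⟨b, hb, rfl⟩ := hcls v
    rw [hρcls r b hb, Module.End.one_apply]
    refine Additive.toMul.injective (Subtype.ext ?_)
    show π (r * b * r⁻¹) = π b
    rw [map_mul, map_mul, map_inv, ← (hbb b hb r hr).eq, mul_inv_cancel_right])
  have hP : ∀ (c : ℕ → G), ∀ w ∈ B, ∀ k : ℕ, comm c w k ∈ B := by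
    intro c w hw k
    induction k with
    | zero => exact hw
    | succ k ih =>
      show ⁅c k, comm c w k⁆ ∈ B
      rw [commutatorElement_def]
      exact mul_mem (hBn.conj_mem _ ih _) (inv_mem ih)
  have hchain : ∀ (c : ℕ → G) (w : G) (hw : w ∈ B) (k : ℕ),
      chain ρ₀ c 0 k (cls w hw) = cls _ (hP c w hw k) := by
    intro c w hw k
    induction k with
    | zero => rfl
    | succ k ih =>
      rw [chain_succ, Module.End.mul_apply, ih, Nat.zero_add, LinearMap.sub_apply, Module.End.one_apply,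
        hρcls (c k) (comm c w k) (hP c w hw k), sub_eq_iff_eq_add]
      refine Additive.toMul.injective (Subtype.ext ?_)
      show π (c k * comm c w k * (c k)⁻¹) = π ⁅c k, comm c w k⁆ * π (comm c w k)
      rw [← map_mul]
      congr 1
      rw [commutatorElement_def]; group
  have hsum₀ : ∀ c : ℕ → G, (∀ l, c l ∈ Y l) → chain ρ₀ c 0 h = 0 := fun c hc => LinearMap.ext fun v => by
    obtain ⟨b, hb, rfl⟩ := hcls v
    rw [hchain c b hb h, LinearMap.zero_apply]
    refine Additive.toMul.injective (Subtype.ext ?_)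
    exact (QuotientGroup.eq_one_iff _).mpr (hAB' (hmove c hc b hb))
  -- the remaining factors
  obtain ⟨W, _, _, _, ρ', hR', hsum', hodd'⟩ := ih B' hB'B hB'n hAB' (hB'B.le.trans hBR)
    fun c hc w hw => hmove c hc w (hB'B.le hw)
  let ρ : G →* End (ZMod 2) (W × Additive Bb) :=
    { toFun := fun g => LinearMap.prodMap (ρ' g) (ρ₀ g)
      map_one' := LinearMap.ext fun v => by simp
      map_mul' := fun a b => LinearMap.ext fun v => by simp }
  have hker : ∀ g, g ∈ ρ.ker ↔ g ∈ ρ'.ker ∧ g ∈ ρ₀.ker := fun g => by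
    simp only [MonoidHom.mem_ker]
    refine ⟨fun e => ⟨LinearMap.ext fun a => ?_, LinearMap.ext fun a => ?_⟩, fun e => LinearMap.ext fun v => ?_⟩
    · exact congrArg Prod.fst (LinearMap.congr_fun e (a, 0))
    · exact congrArg Prod.snd (LinearMap.congr_fun e (0, a))
    · show ((ρ' g) v.1, (ρ₀ g) v.2) = v
      rw [e.1, e.2]; rfl
  refine ⟨W × Additive Bb, inferInstance, inferInstance, inferInstance, ρ,
    fun r hr => (hker r).mpr ⟨hR' hr, hR₀ hr⟩, fun c hc => ?_, fun e he hodd b hb => ?_⟩
  · have hprod : ∀ (k : ℕ) (v : W × Additive Bb), chain ρ c 0 k v = (chain ρ' c 0 k v.1, chain ρ₀ c 0 k v.2) := by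
      intro k
      induction k with
      | zero => intro v; rfl
      | succ k ih =>
        intro v
        rw [chain_succ, chain_succ, chain_succ, Module.End.mul_apply, ih]
        rfl
    refine LinearMap.ext fun v => ?_
    rw [hprod, hsum' c hc, hsum₀ c hc]
    rfl
  -- coprime action
  set πA := QuotientGroup.mk' A with hπA
  set E := zpowers e with hE
  have hEker : ∀ g ∈ E, g ∈ ρ'.ker ∧ g ∈ ρ₀.ker := fun g hg => (hker g).mp (zpowers_le.mpr he hg)
  have hEodd : ∀ g ∈ E, Odd (orderOf g) := fun g hg => hodd.of_dvd_nat <| by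
    rw [← Nat.card_zpowers, ← Nat.card_zpowers e]
    exact card_dvd_of_le (zpowers_le.mpr hg)
  haveI : (B.map πA).Normal := hBn.map πA (QuotientGroup.mk'_surjective A)
  have hcop : (Nat.card (E.map πA)).Coprime (Nat.card (B.map πA)) := by
    obtain ⟨k, hk⟩ := (hB2.map πA).exists_card_eq
    rw [hk]
    refine (Nat.Coprime.coprime_dvd_left (card_map_dvd _ _) ?_).pow_right k
    rw [hE, Nat.card_zpowers]
    exact hodd.coprime_two_right
  have hEcen : E.map πA ≤ centralizer (B.map πA : Set (G ⧸ A)) := by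
    refine Coprime.le_centralizer_of_series le_normalizer_of_normal hcop
      (Or.inl (Coprime.isSolvable_of_isMulCommutative _)) (N := B'.map πA) ?_ (commutator_le.mpr ?_)
    · rintro _ ⟨g, hg, rfl⟩
      refine mem_centralizer_iff.mpr ?_
      rintro _ ⟨c, hc, rfl⟩
      refine (commutatorElement_eq_one_iff_commute.mp ?_).eq
      rw [← map_commutatorElement]
      exact (QuotientGroup.eq_one_iff _).mpr (hodd' g (hEker g hg).1 (hEodd g hg) c hc)
    · rintro _ ⟨c, hc, rfl⟩ _ ⟨g, hg, rfl⟩
      refine ⟨⁅c, g⁆, ?_, map_commutatorElement ..⟩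
      have h1 := LinearMap.congr_fun (MonoidHom.mem_ker.mp (hEker g hg).2) (cls c hc)
      rw [hρcls g c hc, Module.End.one_apply] at h1
      have h2 : π (g * c * g⁻¹) = π c := congrArg (fun v : Additive Bb => ((Additive.toMul v : Bb) : G ⧸ B')) h1
      rw [SetLike.mem_coe, ← QuotientGroup.eq_one_iff, ← QuotientGroup.mk'_apply, ← hπ, map_commutatorElement,
        commutatorElement_eq_one_iff_commute]
      rw [map_mul, map_mul, map_inv] at h2
      exact (mul_inv_eq_iff_eq_mul.mp h2).symm
  rw [← QuotientGroup.eq_one_iff, ← QuotientGroup.mk'_apply, map_commutatorElement,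
    commutatorElement_eq_one_iff_commute]
  exact mem_centralizer_iff.mp (hEcen (mem_map_of_mem _ (mem_zpowers e))) _ (mem_map_of_mem _ hb)

end Cfsg.Agent.GenA.TwoLengthDerived
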