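import Cfsg.Agent.GenA.TwoLengthDerived.Global
import Cfsg.Agent.GenA.TwoLengthDerived.Sections
import Cfsg.Agent.GenA.TwoLengthSharp.Main

/-!
The `2`-length of a finite `2`-soluble group is at most the derived length of a Sylow `2`-subgroup.
-/

set_option autoImplicit false
set_option linter.style.haveILetI false
set_option linter.unusedSectionVars false

namespace Cfsg.Agent.GenA.TwoLengthDerived

open Cfsg Subgroup
open Module (End)
open Cfsg.Agent.GenA.TwoLengthSharp (prodRep prodRep_apply mem_ker_prodRep eq_top_of_image pCore_le_three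
  pPrimeCore_le_one isSolvable_of_isPSolvable_two)
open Cfsg.Agent.PLocal.PLengthBound (exists_layer quot_core eq_top_of_sylow_le)
open Cfsg.Agent.PLocal.DerivedLength (term term_zero term_succ term_map term_le conj_mem_term term_eq_bot)
open Cfsg.Agent.GenA.UpperPSeries (S)
open scoped TensorProduct commutatorElement

universe u

variable {H : Type u} [Group H]

/-- Extension of scalars, keeping the products of differences. -/
theorem exists_closed_chain {W : Type u} [AddCommGroup W] [Module (ZMod 2) W] [Finite W]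
    (σ : H →* End (ZMod 2) W) (hσ : Function.Injective σ) :
    ∃ (V : Type u) (_ : AddCommGroup V) (_ : Module (AlgebraicClosure (ZMod 2)) V)
      (_ : FiniteDimensional (AlgebraicClosure (ZMod 2)) V) (τ : H →* End (AlgebraicClosure (ZMod 2)) V),
      Function.Injective τ ∧ ∀ c i m, chain σ c i m = 0 → chain τ c i m = 0 := by
  haveI : Fact (Nat.Prime 2) := ⟨Nat.prime_two⟩
  haveI : Module.Finite (ZMod 2) W := Module.Finite.of_finite
  let A := AlgebraicClosure (ZMod 2)
  let B : End (ZMod 2) W →ₐ[ZMod 2] End A (A ⊗[ZMod 2] W) := Module.End.baseChangeHom (ZMod 2) A W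
  have hB : Function.Injective B := LinearMap.baseChangeHom_injective (ZMod 2) W A
  let τ : H →* End A (A ⊗[ZMod 2] W) := (B : End (ZMod 2) W →* End A (A ⊗[ZMod 2] W)).comp σ
  refine ⟨A ⊗[ZMod 2] W, inferInstance, inferInstance, inferInstance, τ, hB.comp hσ, fun c i m hc => ?_⟩
  have e : ∀ m, chain τ c i m = B (chain σ c i m) := by
    intro m
    induction m with
    | zero => rw [chain_zero, chain_zero, map_one]
    | succ m ih => rw [chain_succ, chain_succ, ih, map_mul, map_sub, map_one]; rfl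
  rw [e, hc, map_zero]

theorem chain_prodRep {W W' : Type*} [AddCommGroup W] [Module (ZMod 2) W] [AddCommGroup W'] [Module (ZMod 2) W']
    (ρ : H →* End (ZMod 2) W) (ρ' : H →* End (ZMod 2) W') (c : ℕ → H) (i : ℕ) :
    ∀ (m : ℕ) (v : W × W'), chain (prodRep ρ ρ') c i m v = (chain ρ c i m v.1, chain ρ' c i m v.2) := by
  intro m
  induction m with
  | zero => intro v; rfl
  | succ m ih =>
    intro v
    rw [chain_succ, chain_succ, chain_succ, Module.End.mul_apply, ih]
    rfl

theorem exists_chain_lift {Q : Type*} [Group Q] (π : H →* Q) (P : Subgroup H) {c : ℕ → Q}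
    (hc : ∀ l, c l ∈ term (P.map π) l) : ∃ c' : ℕ → H, (∀ l, c' l ∈ term P l) ∧ ∀ l, π (c' l) = c l := by
  simp only [term_map, mem_map] at hc
  choose c' h1 h2 using hc
  exact ⟨c', h1, h2⟩

set_option maxHeartbeats 2000000 in
/-- A faithful module on which the products of differences along the derived terms vanish. -/
theorem faithful_le : ∀ (k : ℕ) {H : Type u} [Group H] [Finite H] [Group.IsSolvable H], pCore 2 H = ⊥ →
    ∀ {W : Type u} [AddCommGroup W] [Module (ZMod 2) W] [Finite W] (ρ : H →* End (ZMod 2) W),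
    Function.Injective ρ → ∀ P : Sylow 2 H, term (P : Subgroup H) k = ⊥ →
    (∀ c : ℕ → H, (∀ l, c l ∈ term (P : Subgroup H) l) → chain ρ c 0 k = 0) →
    S 2 H (2 * (k - 1) + 1) = ⊤ := by
  intro k
  induction k with
  | zero =>
    intro H _ _ _ _ W _ _ _ ρ _ P hlast _
    haveI : Fact (Nat.Prime 2) := ⟨Nat.prime_two⟩
    exact eq_top_of_sylow_le P 0 (by rw [← term_zero (P : Subgroup H), hlast]; exact bot_le)
  | succ k ih =>
  intro H _ _ _ hO W _ _ _ ρ hρ P hlast hz
  haveI : Fact (Nat.Prime 2) := ⟨Nat.prime_two⟩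
  rcases k with _ | e
  · refine eq_top_of_sylow_le P 0 fun g hg => ?_
    have h := hz (Function.update (fun _ => 1) 0 g) fun l => by
      rcases eq_or_ne l 0 with rfl | hl
      · rw [Function.update_self, term_zero]; exact hg
      · rw [Function.update_of_ne hl]; exact one_mem _
    rw [chain_succ, chain_zero, mul_one, Function.update_self, sub_eq_zero, ← map_one ρ] at h
    rw [hρ h]; exact one_mem _
  obtain ⟨V, _, _, _, τ, hτ, hchain⟩ := exists_closed_chain ρ hρ
  haveI : CharP (AlgebraicClosure (ZMod 2)) 2 :=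
    charP_of_injective_algebraMap (algebraMap (ZMod 2) (AlgebraicClosure (ZMod 2))).injective 2
  obtain ⟨N, hNn, hNR, hAN, hNc⟩ := exists_stable hO τ hτ P e hlast fun c hc => hchain _ _ _ (hz c hc)
  haveI : (pPrimeCore 2 H).Normal := Cores.pPrimeCore_normal 2
  set π := QuotientGroup.mk' (pPrimeCore 2 H) with hπ
  have hπs := QuotientGroup.mk'_surjective (pPrimeCore 2 H)
  set PK : Sylow 2 (H ⧸ pPrimeCore 2 H) := P.mapSurjective hπs with hPK
  have hPKeq : (PK : Subgroup (H ⧸ pPrimeCore 2 H)) = (P : Subgroup H).map π := by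
    rw [hPK, Sylow.coe_mapSurjective]
  set R := pCore 2 (H ⧸ pPrimeCore 2 H) with hR
  have hR2 : IsPGroup 2 R := Cores.pCore_isPGroup 2
  have hRP : R ≤ (PK : Subgroup (H ⧸ pPrimeCore 2 H)) := Cores.pCore_le_sylow PK
  haveI := hNn
  set Y : ℕ → Set (H ⧸ pPrimeCore 2 H) := fun l => (term (PK : Subgroup (H ⧸ pPrimeCore 2 H)) l : Subgroup _) with hY
  have hlastK : term (PK : Subgroup (H ⧸ pPrimeCore 2 H)) (e + 1) ≤ N := by
    rw [hPKeq, term_map]; exact hAN
  -- the two modules
  obtain ⟨W₁, _, _, _, ρ₁, hR₁, hs₁, ho₁⟩ := exists_section_rep R hR2 Y (e + 1) N R inferInstance hNR le_rfl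
    (fun c hc w hw => hlastK (levels_le_term (fun l => term (PK : Subgroup (H ⧸ pPrimeCore 2 H)) l)
      (fun l => term_succ _ l) _ (le_of_eq (term_zero _).symm) _
      (comm_mem_levels (fun l => term (PK : Subgroup (H ⧸ pPrimeCore 2 H)) l)
        (D := (PK : Subgroup (H ⧸ pPrimeCore 2 H))) hc (hRP hw) (e + 1))))
  obtain ⟨W₂, _, _, _, ρ₂, hR₂, hs₂, ho₂⟩ := exists_section_rep R hR2 Y (e + 1) ⊥ N hNn bot_le hNR
    (fun c hc w hw => by
      have hcM : ∀ l, c l ∈ term ((P : Subgroup H).map π) l := fun l => hPKeq ▸ hc l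
      obtain ⟨c', hcP, e'⟩ := exists_chain_lift π _ hcM
      obtain rfl : (fun l => π (c' l)) = c := funext e'
      exact mem_bot.mpr (hNc c' hcP w hw))
  set σ := prodRep ρ₁ ρ₂ with hσ
  have hsolv : Group.IsSolvable (H ⧸ pPrimeCore 2 H) := inferInstance
  have hkodd : ∀ g ∈ σ.ker, Odd (orderOf g) → g = 1 := by
    intro g hg hodd
    rw [hσ, mem_ker_prodRep] at hg
    have hcop : (Nat.card (zpowers g)).Coprime (Nat.card R) := by
      obtain ⟨i, hi⟩ := hR2.exists_card_eq
      rw [hi, Nat.card_zpowers]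
      exact hodd.coprime_two_right.pow_right i
    have hmem : ∀ {x}, x ∈ zpowers g → Odd (orderOf x) := fun hx => hodd.of_dvd_nat <| by
      rw [← Nat.card_zpowers, ← Nat.card_zpowers g]
      exact card_dvd_of_le (zpowers_le.mpr hx)
    have hNfix : zpowers g ≤ centralizer (N : Set (H ⧸ pPrimeCore 2 H)) :=
      zpowers_le.mpr (mem_centralizer_iff.mpr fun z hz =>
        (commutatorElement_eq_one_iff_commute.mp (mem_bot.mp (ho₂ g hg.2 hodd z hz))).eq)
    have hRc : zpowers g ≤ centralizer (R : Set (H ⧸ pPrimeCore 2 H)) := by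
      refine Coprime.le_centralizer_of_series le_normalizer_of_normal hcop
        (Or.inl (Coprime.isSolvable_of_isMulCommutative _)) (N := N) hNfix (commutator_le.mpr fun t ht x hx => ?_)
      exact ho₁ x (zpowers_le.mpr hg.1 hx) (hmem hx) t ht
    have hgR : g ∈ R := PLocal.PSolvable.centralizer_pCore_le (Cores.pPrimeCore_quotient_self 2)
      (PLocal.SolvableSeparable.isPSolvable_of_isSolvable 2 _) (hRc (mem_zpowers g))
    obtain ⟨j, hj⟩ := hR2 ⟨g, hgR⟩
    exact orderOf_eq_one_iff.mp (Nat.eq_one_of_dvd_coprimes (hodd.coprime_two_right.pow_right j) dvd_rfl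
      (orderOf_dvd_of_pow_eq_one (by simpa using congrArg Subtype.val hj)))
  have hker : σ.ker = R := by
    refine le_antisymm (Cores.le_pCore (IsPGroup.iff_orderOf.mpr fun g => ?_)) fun r hr => ?_
    · obtain ⟨i, m, hm, hkm⟩ := Nat.exists_eq_pow_mul_and_not_dvd (orderOf_pos g).ne' 2 (by omega)
      refine ⟨i, ?_⟩
      have hsm : orderOf (((g ^ 2 ^ i : σ.ker) : H ⧸ pPrimeCore 2 H)) = m := by
        rw [Subgroup.orderOf_coe, orderOf_pow_of_dvd (pow_ne_zero _ two_ne_zero) (hkm ▸ dvd_mul_right _ _), hkm,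
          Nat.mul_div_cancel_left _ (Nat.pow_pos (by omega))]
      have h1 := hkodd _ (g ^ 2 ^ i : σ.ker).2 (by rw [hsm]; exact Nat.odd_iff.mpr (by omega))
      rw [h1, orderOf_one] at hsm
      rw [hkm, ← hsm, mul_one]
    · rw [hσ, mem_ker_prodRep]
      exact ⟨hR₁ hr, hR₂ hr⟩
  -- the quotient by the core
  set ψ := QuotientGroup.mk' R with hψ
  have hψs := QuotientGroup.mk'_surjective R
  let σ₁ : (H ⧸ pPrimeCore 2 H) ⧸ R →* End (ZMod 2) (W₁ × W₂) := QuotientGroup.lift R σ hker.ge
  have hσ₁ : Function.Injective σ₁ := by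
    rw [injective_iff_map_eq_one]
    intro a ha
    obtain ⟨a, rfl⟩ := QuotientGroup.mk_surjective a
    exact (QuotientGroup.eq_one_iff a).mpr (hker ▸ MonoidHom.mem_ker.mpr ha)
  have hQ := ih (H := (H ⧸ pPrimeCore 2 H) ⧸ R) PLocal.Cores.pCore_quotient_pCore σ₁ hσ₁ (PK.mapSurjective hψs)
    (by
      rw [Sylow.coe_mapSurjective, term_map, Subgroup.map_eq_bot_iff, QuotientGroup.ker_mk']
      exact hlastK.trans hNR)
    (fun c hc => by
      rw [Sylow.coe_mapSurjective] at hc
      obtain ⟨c', hc', e'⟩ := exists_chain_lift ψ _ hc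
      obtain rfl : (fun l => ψ (c' l)) = c := funext e'
      rw [← chain_comp]
      show chain σ c' 0 (e + 1) = 0
      refine LinearMap.ext fun v => ?_
      rw [hσ, chain_prodRep, hs₁ c' hc', hs₂ c' hc']
      rfl)
  have h2 := eq_top_of_image ψ hψs (m := 1) (by rw [hψ, QuotientGroup.ker_mk', hR]; exact pCore_le_three) hQ
  have h3 := eq_top_of_image π hπs (m := 0) (by rw [hπ, QuotientGroup.ker_mk']; exact pPrimeCore_le_one) h2
  rwa [show 0 + (1 + (e + 1 - 1)) = e + 1 + 1 - 1 by omega] at h3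

/-- The `2`-length is at most the derived length of a Sylow `2`-subgroup. -/
theorem pLength_two_le_derived {G : Type u} [Group G] [Finite G] (hG : IsPSolvable 2 G) (d : ℕ)
    (hd : ∀ P : Sylow 2 G, derivedSeries (P : Subgroup G) d = ⊥) : PLengthLE 2 d G := by
  haveI : Fact (Nat.Prime 2) := ⟨Nat.prime_two⟩
  obtain ⟨P⟩ : Nonempty (Sylow 2 G) := inferInstance
  have hlast : term (P : Subgroup G) d = ⊥ := (term_eq_bot _ d).mpr (hd P)
  show S 2 G (2 * d + 1) = ⊤
  rcases Nat.eq_zero_or_pos d with rfl | hd0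
  · exact eq_top_of_sylow_le P 0 (by rw [← term_zero (P : Subgroup G), hlast]; exact bot_le)
  haveI : Group.IsSolvable G := isSolvable_of_isPSolvable_two hG
  have hs := QuotientGroup.mk'_surjective (S 2 G (2 * 0 + 1))
  have hO : pPrimeCore 2 (G ⧸ S 2 G (2 * 0 + 1)) = ⊥ := quot_core 0
  set π := QuotientGroup.mk' (S 2 G (2 * 0 + 1)) with hπ
  set M := G ⧸ S 2 G (2 * 0 + 1) with hM
  set PM := P.mapSurjective hs with hPM
  have hlastM : term (PM : Subgroup M) d = ⊥ := by
    rw [hPM, Sylow.coe_mapSurjective, term_map, hlast, Subgroup.map_bot]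
  obtain ⟨W, _, _, _, ρ, f, hker, hsurj, hequiv⟩ :=
    exists_layer (PLocal.SolvableSeparable.isPSolvable_of_isSolvable 2 M) hO
  set ψ := QuotientGroup.mk' (pCore 2 M) with hψ
  have hψs := QuotientGroup.mk'_surjective (pCore 2 M)
  let ρ₁ : M ⧸ pCore 2 M →* End (ZMod 2) W := QuotientGroup.lift _ ρ hker.ge
  have hρ₁ : Function.Injective ρ₁ := by
    rw [injective_iff_map_eq_one]
    intro a ha
    obtain ⟨a, rfl⟩ := QuotientGroup.mk_surjective a
    exact (QuotientGroup.eq_one_iff a).mpr (hker ▸ MonoidHom.mem_ker.mpr ha)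
  have hQ := faithful_le d PLocal.Cores.pCore_quotient_pCore ρ₁ hρ₁ (PM.mapSurjective hψs)
    (by rw [Sylow.coe_mapSurjective, term_map, hlastM, Subgroup.map_bot])
    (fun c hc => by
      rw [Sylow.coe_mapSurjective] at hc
      obtain ⟨c', hc', e'⟩ := exists_chain_lift ψ _ hc
      obtain rfl : (fun l => ψ (c' l)) = c := funext e'
      rw [← chain_comp]
      show chain ρ c' 0 d = 0
      have hmem : ∀ (v : pCore 2 M) m, comm c' (v : M) m ∈ pCore 2 M := fun v m => by
        induction m with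
        | zero => exact v.2
        | succ m ih =>
          show ⁅c' m, comm c' (v : M) m⁆ ∈ pCore 2 M
          rw [commutatorElement_def]
          exact mul_mem (Normal.conj_mem inferInstance _ ih _) (inv_mem ih)
      have hval : ∀ (v : pCore 2 M) m,
          chain ρ c' 0 m (f v).toAdd = (f ⟨comm c' (v : M) m, hmem v m⟩).toAdd := by
        intro v m
        induction m with
        | zero => rfl
        | succ m ih =>
          rw [chain_succ, Nat.zero_add m, Module.End.mul_apply, ih, LinearMap.sub_apply, Module.End.one_apply,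
            ← hequiv (c' m) ⟨_, hmem v m⟩ ⟨c' m * comm c' (v : M) m * (c' m)⁻¹,
              Normal.conj_mem inferInstance _ (hmem v m) _⟩ rfl, sub_eq_iff_eq_add, ← toAdd_mul, ← map_mul]
          congr 2
          refine Subtype.ext ?_
          show c' m * comm c' (v : M) m * (c' m)⁻¹ = ⁅c' m, comm c' (v : M) m⁆ * comm c' (v : M) m
          rw [commutatorElement_def]; group
      refine LinearMap.ext fun w => ?_
      obtain ⟨v, hv⟩ := hsurj (Multiplicative.ofAdd w)
      have h := hval v d
      rw [hv, toAdd_ofAdd] at h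
      rw [h, LinearMap.zero_apply]
      have h1 : comm c' (v : M) d = 1 := mem_bot.mp (hlastM ▸ levels_le_term (fun l => term (PM : Subgroup M) l)
        (fun l => term_succ _ l) _ (le_of_eq (term_zero _).symm) _
        (comm_mem_levels (fun l => term (PM : Subgroup M) l) (D := (PM : Subgroup M)) hc'
          (Cores.pCore_le_sylow PM v.2) d))
      rw [show (⟨comm c' (v : M) d, hmem v d⟩ : pCore 2 M) = 1 from Subtype.ext h1, map_one, toAdd_one])
  have h2 := eq_top_of_image ψ hψs (m := 1) (by rw [hψ, QuotientGroup.ker_mk']; exact pCore_le_three) hQ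
  have h3 := eq_top_of_image π hs (m := 0) (by rw [hπ, QuotientGroup.ker_mk']) h2
  rwa [show 0 + (1 + (d - 1)) = d by omega] at h3

end Cfsg.Agent.GenA.TwoLengthDerived
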