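import Cfsg.Agent.GenA.TwoLengthDerived.Chain
import Cfsg.Agent.GenA.ShultGross.Scalar
import Cfsg.Agent.GenA.ShultGross.TwoStage
import Cfsg.Agent.Lib.Coprime.PGroup

/-!
An eigenspace of a permuted family of operators is killed by the part of a vanishing product of differences
from the first term of the series fixing it.
-/

set_option autoImplicit false
set_option linter.style.haveILetI false
set_option linter.unusedSectionVars false

namespace Cfsg.Agent.GenA.TwoLengthDerived

open Module (End)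
open Cfsg.Agent.GenA.ShultGross
open Cfsg.Agent.GenA.ShultGross.Two hiding orbit
open scoped commutatorElement

variable {Γ : Type*} [Group Γ] [Finite Γ] {K : Type*} [Field K] {V : Type*} [AddCommGroup V] [Module K V]

theorem eigs_indep {S : Type*} (f : S → End K V) : iSupIndep fun χ : S → K => eigs f χ :=
  (iSupIndep_iff_finsetSum_eq_zero_imp_eq_zero _).mpr fun F v hv h0 =>
    eigen_indep f id F v (fun i hi => mem_eigs.mp (hv i hi)) (fun _ _ _ _ e => e) h0

theorem antitone_of_commutator {T : ℕ → Subgroup Γ} (hT : ∀ i, T (i + 1) = ⁅T i, T i⁆) : Antitone T :=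
  antitone_nat_of_succ_le fun i => hT i ▸ Subgroup.commutator_le_self _

set_option maxHeartbeats 1000000 in
/-- The first level fixing a system of eigenvalues. -/
theorem exists_level {S : Type*} (f : S → End K V) (τ : Γ →* End K V) (θ : Γ →* Equiv.Perm S) {P : Subgroup Γ}
    (hP : IsPGroup 2 P) (hconj : ∀ g ∈ P, ∀ s, f s * τ g = τ g * f (θ g⁻¹ s)) (T : ℕ → Subgroup Γ)
    (hT0 : T 0 ≤ P) (hT : ∀ i, T (i + 1) = ⁅T i, T i⁆) {n : ℕ} (hn : T n = ⊥)
    (hz : ∀ c : ℕ → Γ, (∀ l, c l ∈ T l) → chain τ c 0 n = 0) (χ : S → K) (hχ : eigs f χ ≠ ⊥) :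
    ∃ j < n, (∀ g ∈ T j, ∀ s, χ (θ g s) = χ s) ∧
      ∀ c : ℕ → Γ, (∀ l, c l ∈ T l) → ∀ u ∈ eigs f χ, chain τ c j (n - j) u = 0 := by
  classical
  haveI : Fact (Nat.Prime 2) := ⟨Nat.prime_two⟩
  have hanti := antitone_of_commutator hT
  have hTP : ∀ i, T i ≤ P := fun i => (hanti (Nat.zero_le i)).trans hT0
  -- the action on the systems
  obtain ⟨act, hact⟩ : ∃ act : Γ → (S → K) → S → K, ∀ g ψ s, act g ψ s = ψ (θ g⁻¹ s) :=
    ⟨fun g ψ s => ψ (θ g⁻¹ s), fun _ _ _ => rfl⟩
  have hmul : ∀ g h ψ, act (g * h) ψ = act g (act h ψ) := fun g h ψ => funext fun s => by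
    rw [hact, hact, hact, mul_inv_rev, map_mul, Equiv.Perm.mul_apply]
  have hone : ∀ ψ, act 1 ψ = ψ := fun ψ => funext fun s => by
    rw [hact, inv_one, map_one, Equiv.Perm.one_apply]
  have hmap : ∀ g ∈ P, ∀ ψ, ∀ w ∈ eigs f ψ, τ g w ∈ eigs f (act g ψ) := fun g hg ψ w hw =>
    mem_eigs.mpr fun s => by
      rw [← Module.End.mul_apply, hconj g hg s, Module.End.mul_apply, mem_eigs.mp hw, map_smul, hact]
  have hex : ∃ j, j ≤ n ∧ ∀ g ∈ T j, act g χ = χ := ⟨n, le_rfl, fun g hg => by
    rw [hn, Subgroup.mem_bot] at hg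
    rw [hg, hone]⟩
  set j := Nat.find hex with hj
  obtain ⟨hjn, hjfix⟩ : j ≤ n ∧ ∀ g ∈ T j, act g χ = χ := Nat.find_spec hex
  -- the orbits separate
  have hsep : ∀ i < j, ∃ c ∈ T i, ∀ g ∈ T (i + 1), act c χ ≠ act g χ := by
    intro i hi
    by_contra! hcon
    refine Nat.find_min hex hi ⟨by omega, ?_⟩
    let St : Subgroup Γ :=
      { carrier := {g | act g χ = χ}
        one_mem' := hone χ
        mul_mem' := fun {a b} (ha : act a χ = χ) (hb : act b χ = χ) => show act (a * b) χ = χ by
          rw [hmul, hb, ha]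
        inv_mem' := fun {a} (ha : act a χ = χ) => show act a⁻¹ χ = χ by
          conv_lhs => rw [← ha]
          rw [← hmul, inv_mul_cancel, hone] }
    haveI : Group.IsNilpotent (T i) := (hP.to_le (hTP i)).isNilpotent
    have htop : St.subgroupOf (T i) ⊔ frattini (T i) = ⊤ := by
      rw [eq_top_iff]
      intro c _
      obtain ⟨g, hg, hgc⟩ := hcon c c.2
      rw [hT] at hg
      have hgi : g ∈ T i := Subgroup.commutator_le_self _ hg
      have h1 : (⟨g, hgi⟩ : T i) ∈ frattini (T i) := by
        refine Cfsg.Agent.Coprime.commutator_le_frattini (T i) ?_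
        rw [← Subgroup.map_subtype_commutator] at hg
        obtain ⟨g', hg', e⟩ := hg
        rwa [show (⟨g, hgi⟩ : T i) = g' from Subtype.ext e.symm]
      rw [show c = ⟨g, hgi⟩ * (⟨g, hgi⟩⁻¹ * c) from (mul_inv_cancel_left _ _).symm]
      refine mul_mem (Subgroup.mem_sup_right h1) (Subgroup.mem_sup_left ?_)
      show act (g⁻¹ * (c : Γ)) χ = χ
      rw [hmul, hgc, ← hmul, inv_mul_cancel, hone]
    exact fun g hg => Subgroup.subgroupOf_eq_top.mp (frattini_nongenerating htop) hg
  -- descending along the levels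
  have key : ∀ i ≤ j, ∀ c : ℕ → Γ, (∀ l, c l ∈ T l) → ∀ u ∈ eigs f χ, chain τ c i (n - i) u = 0 := by
    intro i
    induction i with
    | zero => intro _ c hc u _; rw [Nat.sub_zero, hz c hc, LinearMap.zero_apply]
    | succ i ih =>
      intro hij c hc u hu
      obtain ⟨a, ha, hsepa⟩ := hsep i hij
      set m := n - (i + 1) with hm
      set L : (S → K) → Submodule K V := fun ψ =>
        ⨆ φ ∈ {φ | ∃ g ∈ T (i + 1), φ = act g ψ}, eigs f φ with hL
      have hinv : ∀ ψ, ∀ g ∈ T (i + 1), ∀ w ∈ L ψ, τ g w ∈ L ψ := by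
        intro ψ g hg
        have h : L ψ ≤ (L ψ).comap (τ g) := iSup₂_le fun φ hφ w hw => by
          obtain ⟨g', hg', rfl⟩ := hφ
          refine Submodule.mem_comap.mpr ((le_biSup (fun φ => eigs f φ)
            (show act g (act g' ψ) ∈ {φ | ∃ g ∈ T (i + 1), φ = act g ψ} from
              ⟨g * g', mul_mem hg hg', (hmul g g' ψ).symm⟩)) ?_)
          exact hmap g (hTP (i + 1) hg) _ w hw
        exact fun w hw => h hw
      have hchain : ∀ ψ, ∀ k, ∀ w ∈ eigs f ψ, chain τ c (i + 1) k w ∈ L ψ := by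
        intro ψ k
        induction k with
        | zero =>
          intro w hw
          exact le_biSup (fun φ => eigs f φ) (show ψ ∈ {φ | ∃ g ∈ T (i + 1), φ = act g ψ} from
            ⟨1, one_mem _, (hone ψ).symm⟩) (by rw [chain_zero]; exact hw)
        | succ k ih =>
          intro w hw
          rw [chain_succ, Module.End.mul_apply, LinearMap.sub_apply, Module.End.one_apply]
          exact sub_mem (hinv ψ _ (hanti (show i + 1 ≤ i + 1 + k by omega) (hc _)) _ (ih w hw)) (ih w hw)
      have h := ih (by omega) (Function.update c i a) (fun l => by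
        rcases eq_or_ne l i with rfl | hl
        · rw [Function.update_self]; exact ha
        · rw [Function.update_of_ne hl]; exact hc l) u hu
      rw [show n - i = m + 1 by omega, chain_split, Function.update_self,
        chain_congr τ (c' := c) (i + 1) m fun l h1 _ => Function.update_of_ne (by omega) a c,
        Module.End.mul_apply, LinearMap.sub_apply, Module.End.one_apply, map_sub, sub_eq_zero] at h
      have h1 := hchain χ m u hu
      have h2 := hchain (act a χ) m (τ a u) (hmap a (hTP i ha) χ u hu)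
      rw [h] at h2
      refine (Submodule.disjoint_def.mp ((eigs_indep f).disjoint_biSup_biSup ?_)) _ h1 h2
      rw [Set.disjoint_left]
      rintro φ ⟨g, hg, rfl⟩ ⟨g', hg', e⟩
      refine hsepa (g'⁻¹ * g) (mul_mem (inv_mem hg') hg) ?_
      rw [hmul, e, ← hmul, inv_mul_cancel, hone]
  have hjlt : j < n := by
    refine lt_of_le_of_ne hjn fun e => hχ ((Submodule.eq_bot_iff _).mpr fun u hu => ?_)
    have h := key j le_rfl (fun _ => 1) (fun l => one_mem _) u hu
    rwa [e, Nat.sub_self, chain_zero, Module.End.one_apply] at h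
  refine ⟨j, hjlt, fun g hg s => ?_, key j le_rfl⟩
  have h := congrFun (hjfix g⁻¹ (inv_mem hg)) s
  rwa [hact, inv_inv] at h

end Cfsg.Agent.GenA.TwoLengthDerived
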